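import Cfsg.Agent.Lib.IndexTwoSmooth.Defs
import Cfsg.Agent.Lib.CIT.Iso
import Cfsg.Agent.Lib.Suzuki.LieEquiv
import Cfsg.Agent.Lib.Classical.Card
import Cfsg.Agent.Lib.BrauerTuan.Corollary
import Cfsg.Agent.Lib.SelfCentThree.Simple
import Cfsg.Agent.S0495

/-!
# The surviving orders with two-group centralisers of involutions, and the prime three
-/

set_option autoImplicit false
set_option linter.unusedSectionVars false
set_option linter.style.haveILetI false

namespace CfsgLib.IndexTwoSmooth

open Subgroup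

variable {G : Type*} [Group G] [Finite G]

theorem isL2_five_of_sixty [IsSimpleGroup G] (h : Nat.card G = 60) : IsL2 G 5 := by
  haveI : Fact (Nat.Prime 5) := ⟨Nat.prime_five⟩
  letI : Fintype G := Fintype.ofFinite G
  have hnc : ¬ IsCyclic G := fun hc => by
    haveI := hc
    let _ : CommGroup G := IsCyclic.commGroup
    have hp := IsSimpleGroup.prime_card (α := G)
    rw [h] at hp
    norm_num at hp
  rcases CfsgLib.BrauerReynolds.concl_of_small (p := 5) hnc (by rw [h]; norm_num) (by rw [h]; norm_num) with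
    ⟨K, _, _, hK, -, ⟨iso⟩⟩ | ⟨m, K, _, _, hK, hpm, -, ⟨iso⟩⟩
  · exact ⟨K, inferInstance, inferInstance, hK, ⟨iso⟩⟩
  · exact CfsgLib.BrauerTuan.psl_four_equiv_five (F := K) (by omega) ⟨iso⟩

/-- No field has 15 or 63 elements. -/
theorem not_card_field (F : Type) [Field F] [Fintype F] {q : ℕ} (hq : q = 15 ∨ q = 63) :
    Fintype.card F ≠ q := by
  intro h
  obtain ⟨r, n, hr, -, hrn⟩ := (Fintype.isPrimePow_card_of_field (α := F))
  rw [h] at hrn
  have hr' : r.Prime := hr.nat_prime
  have h3 : r = 3 := by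
    have : 3 ∣ r ^ n := hrn ▸ by omega
    exact ((Nat.prime_dvd_prime_iff_eq Nat.prime_three hr').mp (Nat.prime_three.dvd_of_dvd_pow this)).symm
  obtain ⟨l, hl, hl3, hlq⟩ : ∃ l, Nat.Prime l ∧ l ≠ 3 ∧ l ∣ q := by
    rcases hq with rfl | rfl
    · exact ⟨5, Nat.prime_five, by norm_num, by norm_num⟩
    · exact ⟨7, by norm_num, by norm_num, by norm_num⟩
  exact hl3 (((Nat.prime_dvd_prime_iff_eq hl hr').mp (hl.dvd_of_dvd_pow (hrn ▸ hlq))).trans h3)

/-- **Orders in `citList`.** -/
theorem cit_case [IsSimpleGroup G] (hG : ¬ IsMulCommutative G) (h : Nat.card G ∈ citList)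
    (hCIT : ∀ t : G, orderOf t = 2 → IsPGroup 2 (centralizer ({t} : Set G))) : Concl G := by
  have hG' : ∃ a b : G, a * b ≠ b * a := by
    by_contra hn
    push Not at hn
    exact hG ⟨⟨hn⟩⟩
  have hle : Nat.card G ≤ 124992 := by
    simp only [citList, List.mem_cons, List.not_mem_nil, or_false] at h
    omega
  rcases CfsgLib.CIT.classification_iso hG' hCIT with
    ⟨F, i1, i2, -, ⟨e⟩⟩ | hl3 | ⟨F, i1, i2, m, hm, hF, ⟨e⟩⟩
  · have hc := CfsgLib.Classical.card_PSL_two (F := F)
    rw [← Nat.card_congr e.toEquiv] at hc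
    obtain ⟨q, hq⟩ : ∃ q, Fintype.card F = q := ⟨_, rfl⟩
    have hq2 : 2 ≤ q := hq ▸ Fintype.one_lt_card
    rw [hq] at hc
    have hgd : Nat.gcd 2 (q - 1) ≤ 2 := Nat.le_of_dvd two_pos (Nat.gcd_dvd_left _ _)
    have hq64 : q < 64 := by
      by_contra hh
      have h1 : 64 * (64 ^ 2 - 1) ≤ q * (q ^ 2 - 1) :=
        Nat.mul_le_mul (not_lt.mp hh) (Nat.sub_le_sub_right (Nat.pow_le_pow_left (not_lt.mp hh) 2) 1)
      have := Nat.mul_le_mul hgd hle
      omega
    simp only [citList, List.mem_cons, List.not_mem_nil, or_false] at h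
    have key : q = 4 ∨ q = 5 ∨ q = 8 ∨ q = 9 ∨ q = 16 := by
      rcases (show Nat.gcd 2 (q - 1) = 1 ∨ Nat.gcd 2 (q - 1) = 2 from
        (Nat.dvd_prime Nat.prime_two).mp (Nat.gcd_dvd_left _ _)) with e | e <;> rw [e] at hc <;>
        interval_cases q <;> first
          | omega
          | (norm_num at e; done)
          | (exfalso; norm_num at hc; omega)
          | exact absurd hq (not_card_field F (by norm_num))
    rcases key with rfl | rfl | rfl | rfl | rfl
    · exact Or.inl (CfsgLib.BrauerTuan.psl_four_equiv_five hq ⟨e⟩)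
    · exact Or.inl ⟨F, i1, i2, hq, ⟨e⟩⟩
    · simp only [Concl]; exact Or.inr (Or.inr (Or.inr (Or.inl ⟨F, i1, i2, hq, ⟨e⟩⟩)))
    · exact Or.inr (Or.inr (Or.inl ⟨F, i1, i2, hq, ⟨e⟩⟩))
    · exact Or.inr (Or.inr (Or.inr (Or.inr (Or.inl ⟨F, i1, i2, hq, ⟨e⟩⟩))))
  · unfold Concl
    tauto
  · exfalso
    haveI := CfsgLib.Suzuki.charP_two_of_card hF
    haveI : CfsgLib.Suzuki.Param F m := ⟨hm, hF⟩
    have hc : Nat.card G = Fintype.card F ^ 2 * (Fintype.card F ^ 2 + 1) * (Fintype.card F - 1) := by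
      rw [Nat.card_congr e.toEquiv, ← Nat.card_congr (CfsgLib.Suzuki.lieEquiv F m).toEquiv,
        CfsgLib.Suzuki.natCard_group]
    rw [hF] at hc
    rcases Nat.lt_or_ge m 2 with h2 | h2
    · obtain rfl : m = 1 := by omega
      norm_num at hc
      rw [hc] at h
      simp [citList] at h
    · have h32 : 32 ≤ 2 ^ (2 * m + 1) := by
        calc 32 = 2 ^ 5 := rfl
          _ ≤ _ := Nat.pow_le_pow_right two_pos (by omega)
      have h1 : 32 ^ 2 * (32 ^ 2 + 1) * (32 - 1) ≤ Nat.card G := by
        rw [hc]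
        exact Nat.mul_le_mul (Nat.mul_le_mul (Nat.pow_le_pow_left h32 2)
          (Nat.add_le_add_right (Nat.pow_le_pow_left h32 2) 1)) (Nat.sub_le_sub_right h32 1)
      omega

/-- **The prime three.** -/
theorem three_case [IsSimpleGroup G] [Fact (Nat.Prime 3)] (hG : ¬ IsMulCommutative G) (P : Sylow 3 G)
    (hP : Nat.card (P : Subgroup G) = 3)
    (hN : (P : Subgroup G).relIndex (normalizer ((P : Subgroup G) : Set G)) = 2) : Concl G := by
  haveI hcyc : IsCyclic (P : Subgroup G) := isCyclic_of_prime_card hP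
  haveI : Nontrivial (P : Subgroup G) := Finite.one_lt_card_iff_nontrivial.mp (by rw [hP]; norm_num)
  obtain ⟨⟨x, hx⟩, hgen⟩ := IsCyclic.exists_generator (α := (P : Subgroup G))
  have hPx : (P : Subgroup G) = zpowers x := by
    refine le_antisymm (fun y hy => ?_) (zpowers_le.mpr hx)
    obtain ⟨i, hi⟩ := mem_zpowers_iff.mp (hgen ⟨y, hy⟩)
    exact mem_zpowers_iff.mpr ⟨i, by have := congrArg Subtype.val hi; simpa using this⟩
  have hxo : orderOf x = 3 := by rw [← Nat.card_zpowers, ← hPx, hP]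
  have hNc : Nat.card (normalizer ((P : Subgroup G) : Set G)) = 6 := by
    have := ((P : Subgroup G).subgroupOf (normalizer ((P : Subgroup G) : Set G))).card_mul_index
    rw [Nat.card_congr (subgroupOfEquivOfLe le_normalizer).toEquiv, hP] at this
    rw [← this, show ((P : Subgroup G).subgroupOf _).index = 2 from hN]
  have hCN : centralizer ({x} : Set G) ≤ normalizer ((P : Subgroup G) : Set G) := by
    intro g hg
    refine centralizer_le_normalizer ((P : Subgroup G) : Set G) (mem_centralizer_iff.mpr fun c hc => ?_)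
    rw [SetLike.mem_coe, hPx] at hc
    obtain ⟨i, rfl⟩ := mem_zpowers_iff.mp hc
    exact ((show Commute x g from (mem_centralizer_singleton_iff.mp hg).symm).zpow_left i).eq
  have hPC : (P : Subgroup G) ≤ centralizer ({x} : Set G) :=
    hPx ▸ zpowers_le.mpr (mem_centralizer_singleton_iff.mpr rfl)
  -- `P` is not central in its normaliser
  have hC : centralizer ({x} : Set G) = zpowers x := by
    by_contra hne
    have h1 : 3 ∣ Nat.card (centralizer ({x} : Set G)) := hP ▸ card_dvd_of_le hPC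
    have h2 : Nat.card (centralizer ({x} : Set G)) ∣ 6 := hNc ▸ card_dvd_of_le hCN
    have h3 : Nat.card (centralizer ({x} : Set G)) ≠ 3 := fun e => hne
      (by rw [← hPx]; exact (eq_of_le_of_card_ge hPC (by rw [e, hP])).symm)
    have h6 : Nat.card (centralizer ({x} : Set G)) = 6 := by
      have := Nat.le_of_dvd (by norm_num) h2
      generalize Nat.card (centralizer ({x} : Set G)) = c at *
      interval_cases c <;> simp_all
    have hall : normalizer ((P : Subgroup G) : Set G) ≤ centralizer ((P : Subgroup G) : Set G) := by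
      intro g hg
      have hgC : g ∈ centralizer ({x} : Set G) := (eq_of_le_of_card_ge hCN (by rw [h6, hNc])).symm ▸ hg
      refine mem_centralizer_iff.mpr fun c hc => ?_
      rw [SetLike.mem_coe, hPx] at hc
      obtain ⟨i, rfl⟩ := mem_zpowers_iff.mp hc
      exact ((show Commute x g from (mem_centralizer_singleton_iff.mp hgC).symm).zpow_left i).eq
    have hK := MonoidHom.ker_transferSylow_isComplement' P hall
    rcases (MonoidHom.normal_ker (MonoidHom.transferSylow P hall)).eq_bot_or_eq_top with e | e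
    · rw [e] at hK
      have htop : (P : Subgroup G) = ⊤ := Subgroup.isComplement'_bot_left.mp hK
      refine hG ⟨⟨fun a b => ?_⟩⟩
      have := (IsCyclic.commGroup (α := (P : Subgroup G))).mul_comm ⟨a, htop.symm ▸ mem_top a⟩ ⟨b, htop.symm ▸ mem_top b⟩
      exact congrArg Subtype.val this
    · rw [e] at hK
      have hbot : (P : Subgroup G) = ⊥ := Subgroup.isComplement'_top_left.mp hK
      rw [hbot, Subgroup.card_bot] at hP
      norm_num at hP
  rcases CfsgLib.SCThree.simple_card hG (x := x) ⟨Nat.prime_three, hxo, hC⟩ with h60 | h168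
  · exact Or.inl (isL2_five_of_sixty h60)
  · haveI : Fact (Nat.Prime 7) := ⟨by norm_num⟩
    exact Or.inr (Or.inl ⟨ZMod 7, inferInstance, inferInstance, ZMod.card 7,
      Cfsg.Agent.S0495.result h168 (ZMod.card 7)⟩)

end CfsgLib.IndexTwoSmooth
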