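import Mathlib

/-!
# Consecutive integers with prime factors at most seven (Stoermer's method)
-/

set_option autoImplicit false

namespace CfsgLib.IndexTwoSmooth

/-- The number with the exponent vector `e` at `2, 3, 5, 7`. -/
def num (e : ℕ × ℕ × ℕ × ℕ) : ℕ := 2 ^ e.1 * 3 ^ e.2.1 * 5 ^ e.2.2.1 * 7 ^ e.2.2.2

/-- `n` has no prime divisor above seven. -/
def Smooth7 (n : ℕ) : Prop := ∀ q : ℕ, q.Prime → q ∣ n → q = 2 ∨ q = 3 ∨ q = 5 ∨ q = 7

/-- The consecutive pairs. -/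
def pairList : List ℕ :=
  [1, 2, 3, 4, 5, 6, 7, 8, 9, 14, 15, 20, 24, 27, 35, 48, 49, 63, 80, 125, 224, 2400, 4374]

theorem exists_exp {n : ℕ} (h0 : n ≠ 0) (h : Smooth7 n) : ∃ e, n = num e := by
  induction n using Nat.recOnMul with
  | zero => exact absurd rfl h0
  | one => exact ⟨(0, 0, 0, 0), rfl⟩
  | prime p hp =>
    rcases h p hp dvd_rfl with rfl | rfl | rfl | rfl
    · exact ⟨(1, 0, 0, 0), rfl⟩
    · exact ⟨(0, 1, 0, 0), rfl⟩
    · exact ⟨(0, 0, 1, 0), rfl⟩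
    · exact ⟨(0, 0, 0, 1), rfl⟩
  | mul a b iha ihb =>
    rw [mul_ne_zero_iff] at h0
    obtain ⟨e, rfl⟩ := iha h0.1 fun q hq hd => h q hq (hd.mul_right b)
    obtain ⟨f, rfl⟩ := ihb h0.2 fun q hq hd => h q hq (hd.mul_left _)
    exact ⟨(e.1 + f.1, e.2.1 + f.2.1, e.2.2.1 + f.2.2.1, e.2.2.2 + f.2.2.2), by
      simp only [num, pow_add]; ring⟩

theorem pow_dvd_num (e : ℕ × ℕ × ℕ × ℕ) :
    2 ^ e.1 ∣ num e ∧ 3 ^ e.2.1 ∣ num e ∧ 5 ^ e.2.2.1 ∣ num e ∧ 7 ^ e.2.2.2 ∣ num e :=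
  ⟨((dvd_mul_right _ _).mul_right _).mul_right _, ((dvd_mul_left _ _).mul_right _).mul_right _,
    (dvd_mul_left _ _).mul_right _, dvd_mul_left _ _⟩

theorem prime_dvd_num {q : ℕ} (hq : q.Prime) {e : ℕ × ℕ × ℕ × ℕ} (h : q ∣ num e) :
    q = 2 ∧ e.1 ≠ 0 ∨ q = 3 ∧ e.2.1 ≠ 0 ∨ q = 5 ∧ e.2.2.1 ≠ 0 ∨ q = 7 ∧ e.2.2.2 ≠ 0 := by
  have key : ∀ {r i : ℕ}, r.Prime → q ∣ r ^ i → q = r ∧ i ≠ 0 := by
    intro r i hr hd
    refine ⟨(Nat.prime_dvd_prime_iff_eq hq hr).mp (hq.dvd_of_dvd_pow hd), fun h0 => ?_⟩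
    rw [h0, pow_zero] at hd
    exact hq.not_dvd_one hd
  rcases hq.dvd_mul.mp h with h | h
  · rcases hq.dvd_mul.mp h with h | h
    · rcases hq.dvd_mul.mp h with h | h
      · exact Or.inl (key Nat.prime_two h)
      · exact Or.inr (Or.inl (key Nat.prime_three h))
    · exact Or.inr (Or.inr (Or.inl (key Nat.prime_five h)))
  · exact Or.inr (Or.inr (Or.inr (key (by norm_num) h)))

section Pell

open Pell

variable {D : ℤ} (c : Solution₁ D)

/-- The quotients `y (c ^ n) / y c`. -/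
def quot : ℕ → ℤ
  | 0 => 0
  | n + 1 => (c ^ n).x + c.x * quot n

theorem y_pow_eq (n : ℕ) : (c ^ n).y = c.y * quot c n := by
  induction n with
  | zero => simp [quot]
  | succ n ih => rw [pow_succ, Solution₁.y_mul, ih, quot]; ring

theorem x_pow_succ_eq (n : ℕ) : (c ^ (n + 1)).x = c.x * (c ^ n).x + D * c.y ^ 2 * quot c n := by
  rw [pow_succ, Solution₁.x_mul, y_pow_eq]; ring

theorem quot_ge (hD : 0 ≤ D) (hx : 0 < c.x) (n : ℕ) :
    c.x ^ n ≤ (c ^ n).x ∧ 0 ≤ quot c n ∧ (n : ℤ) * c.x ^ n ≤ c.x * quot c n := by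
  induction n with
  | zero => simp [quot]
  | succ n ih =>
    obtain ⟨h1, h2, h3⟩ := ih
    have hp : 0 ≤ c.x ^ n := by positivity
    refine ⟨?_, ?_, ?_⟩
    · rw [x_pow_succ_eq, pow_succ']
      nlinarith [mul_le_mul_of_nonneg_left h1 hx.le, mul_nonneg (mul_nonneg hD (sq_nonneg c.y)) h2]
    · rw [quot]; nlinarith [mul_nonneg hx.le h2]
    · rw [quot, pow_succ', Nat.cast_succ]
      nlinarith [mul_le_mul_of_nonneg_left h1 hx.le, mul_le_mul_of_nonneg_left h3 hx.le]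

theorem quot_mod (n : ℕ) :
    (D * c.y ^ 2) ^ 2 ∣ c.x ^ 2 * (c ^ n).x - c.x ^ n * (c.x ^ 2 + n.choose 2 * (D * c.y ^ 2)) ∧
      (D * c.y ^ 2) ^ 2 ∣ c.x ^ 3 * quot c n - c.x ^ n * (n * c.x ^ 2 + n.choose 3 * (D * c.y ^ 2)) := by
  have hT : c.x ^ 2 = 1 + D * c.y ^ 2 := by linear_combination c.prop
  induction n with
  | zero => simp [quot]
  | succ n ih =>
    obtain ⟨⟨a, ha⟩, b, hb⟩ := ih
    rw [x_pow_succ_eq, quot, Nat.choose_succ_succ' n 2, Nat.choose_succ_succ' n 1,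
      Nat.choose_one_right]
    push_cast
    refine ⟨⟨c.x * a + (c.x * (c.x ^ n * (n.choose 3 : ℤ) + D * c.y ^ 2 * b) -
      (c.x ^ 2 * quot c n - n * c.x ^ (n + 1))), ?_⟩, c.x * a + c.x * b, ?_⟩
    · rw [pow_succ c.x n]
      linear_combination c.x * ha + (D * c.y ^ 2 * c.x) * hb -
        (D * c.y ^ 2 * (c.x ^ 2 * quot c n - n * (c.x ^ n * c.x))) * hT
    · linear_combination c.x * ha + c.x * hb

/-- `c ^ r`, `r` prime, has a prime divisor of `y` not dividing `D`. -/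
theorem false_of_supp {r : ℕ} (hr : r.Prime) (hD : 0 < D) (hx : 1 < c.x) (hy : 0 < c.y)
    (h : ∀ q : ℕ, q.Prime → (q : ℤ) ∣ (c ^ r).y → (q : ℤ) ∣ D) : False := by
  have hT : c.x ^ 2 = 1 + D * c.y ^ 2 := by linear_combination c.prop
  have hDx : ∀ q : ℕ, q.Prime → (q : ℤ) ∣ D → ¬ (q : ℤ) ∣ c.x := fun q hq hqD hqx => by
    have : (q : ℤ) ∣ 1 := by
      have h1 : (1 : ℤ) = c.x * c.x - D * c.y ^ 2 := by linear_combination -c.prop
      rw [h1]; exact dvd_sub (hqx.mul_right _) (hqD.mul_right _)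
    exact hq.not_dvd_one (by exact_mod_cast this)
  have hq : ∀ q : ℕ, q.Prime → (q : ℤ) ∣ quot c r → (q : ℤ) ∣ D := fun q hq h' =>
    h q hq (y_pow_eq c r ▸ h'.mul_left _)
  rcases hr.eq_two_or_odd with rfl | hodd
  · obtain ⟨q, hq1, hq2⟩ := Nat.exists_prime_and_dvd (n := c.x.natAbs) (by omega)
    have hqx : (q : ℤ) ∣ c.x := Int.natCast_dvd.mpr hq2
    refine hDx q hq1 (hq q hq1 ?_) hqx
    have : quot c 2 = c.x + c.x := by simp [quot]
    rw [this]; exact dvd_add hqx hqx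
  obtain ⟨hge, hQ0, hQ⟩ := quot_ge c hD.le (by omega) r
  obtain ⟨⟨-, -⟩, hmod⟩ : ((True ∧ True) ∧ _) := ⟨⟨trivial, trivial⟩, (quot_mod c r).2⟩
  have hlt : (r : ℤ) < quot c r := by
    have h2 : (r : ℤ) * c.x ^ r = c.x * (r * c.x ^ (r - 1)) := by
      conv_lhs => rw [show r = r - 1 + 1 from (Nat.succ_pred_eq_of_pos hr.pos).symm, pow_succ]
      rw [show r - 1 + 1 = r from Nat.succ_pred_eq_of_pos hr.pos]; ring
    have h3 : (r : ℤ) * c.x ^ (r - 1) ≤ quot c r := le_of_mul_le_mul_left (h2 ▸ hQ) (by omega)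
    have h4 : 1 < c.x ^ (r - 1) := one_lt_pow₀ hx (by have := hr.two_le; omega)
    have : (0 : ℤ) < r := by exact_mod_cast hr.pos
    nlinarith
  have huniq : ∀ q : ℕ, q.Prime → (q : ℤ) ∣ quot c r → q = r := fun q hq1 hqQ => by
    have hqD := hq q hq1 hqQ
    have hqT : (q : ℤ) ∣ D * c.y ^ 2 := hqD.mul_right _
    have h5 : (q : ℤ) ∣ c.x ^ r * (r * c.x ^ 2 + r.choose 3 * (D * c.y ^ 2)) := by
      have h' := dvd_sub (hqQ.mul_left (c.x ^ 3)) ((dvd_pow hqT two_ne_zero).trans hmod)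
      rwa [sub_sub_cancel] at h'
    have hp : Prime (q : ℤ) := Nat.prime_iff_prime_int.mp hq1
    rcases hp.dvd_or_dvd h5 with h' | h'
    · exact absurd (hp.dvd_of_dvd_pow h') (hDx q hq1 hqD)
    · have h'' := dvd_sub h' (hqT.mul_left (r.choose 3 : ℤ))
      rw [add_sub_cancel_right] at h''
      rcases hp.dvd_or_dvd h'' with h3 | h3
      · exact (Nat.prime_dvd_prime_iff_eq hq1 hr).mp (by exact_mod_cast h3)
      · exact absurd (hp.dvd_of_dvd_pow h3) (hDx q hq1 hqD)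
  obtain ⟨m, hm⟩ := Int.eq_ofNat_of_zero_le hQ0
  obtain ⟨i, hi⟩ : ∃ i, m = r ^ i := ⟨_, Nat.eq_prime_pow_of_unique_prime_dvd (by omega)
    fun {d} hd hdm => huniq d hd (hm ▸ Int.natCast_dvd_natCast.mpr hdm)⟩
  have hi2 : 2 ≤ i := by
    by_contra hlt2
    interval_cases i <;> simp at hi <;> subst hi <;> have := hr.two_le <;> omega
  have hr2 : (r : ℤ) ^ 2 ∣ quot c r := by
    rw [hm, hi]; push_cast; exact pow_dvd_pow _ hi2
  rcases Nat.lt_or_ge r 4 with h4 | h4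
  · obtain rfl : r = 3 := by
      have := hr.two_le
      omega
    have e3 : quot c 3 = (2 * c.x - 1) * (2 * c.x + 1) := by
      simp [quot, pow_succ, Solution₁.x_mul]
      linear_combination -hT
    have key : ∀ z : ℤ, 1 < z → z ∣ quot c 3 → (3 : ℤ) ∣ z := fun z hz hzd => by
      obtain ⟨q, hq1, hq2⟩ := Nat.exists_prime_and_dvd (n := z.natAbs) (by omega)
      have hqz : (q : ℤ) ∣ z := Int.natCast_dvd.mpr hq2
      rw [huniq q hq1 (hqz.trans hzd)] at hqz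
      exact hqz
    have h1 := key (2 * c.x - 1) (by omega) (e3 ▸ dvd_mul_right _ _)
    have h2 := key (2 * c.x + 1) (by omega) (e3 ▸ dvd_mul_left _ _)
    omega
  · have hrD : (r : ℤ) ∣ D := hq r hr ((dvd_pow_self _ two_ne_zero).trans hr2)
    obtain ⟨w, hw⟩ := hr.dvd_choose_self (show 3 ≠ 0 by norm_num) (by omega)
    obtain ⟨u, hu⟩ := hrD.mul_right (c.y ^ 2)
    have h6 : (r : ℤ) ^ 2 ∣ c.x ^ r * (r * c.x ^ 2 + r.choose 3 * (D * c.y ^ 2)) := by
      have h' := dvd_sub (hr2.mul_left (c.x ^ 3)) ((show (r : ℤ) ^ 2 ∣ (D * c.y ^ 2) ^ 2 from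
        ⟨u ^ 2, by rw [hu]; ring⟩).trans hmod)
      rwa [sub_sub_cancel] at h'
    rw [hw, Nat.cast_mul, hu, mul_add] at h6
    have h7 : (r : ℤ) * r ∣ (r : ℤ) * c.x ^ (r + 2) := by
      have := dvd_sub h6 (show (r : ℤ) ^ 2 ∣ c.x ^ r * ((r : ℤ) * w * (r * u)) from
        ⟨c.x ^ r * w * u, by ring⟩)
      rw [add_sub_cancel_right, pow_two] at this
      rwa [pow_add, mul_left_comm]
    exact hDx r hr hrD ((Nat.prime_iff_prime_int.mp hr).dvd_of_dvd_pow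
      ((mul_dvd_mul_iff_left (Nat.cast_ne_zero.mpr hr.ne_zero)).mp h7))

/-- A solution all whose prime factors of `y` divide `D` divides every other. -/
theorem y_dvd {X Y X0 Y0 : ℤ} (hD : 0 < D) (hsq : ¬ IsSquare D) (h : X ^ 2 - D * Y ^ 2 = 1)
    (hX : 0 < X) (hY : 0 < Y) (h0 : X0 ^ 2 - D * Y0 ^ 2 = 1) (hX0 : 0 < X0) (hY0 : 0 ≤ Y0)
    (hs : ∀ q : ℕ, q.Prime → (q : ℤ) ∣ Y → (q : ℤ) ∣ D) : Y ∣ Y0 := by
  obtain ⟨a, ha⟩ := IsFundamental.exists_of_not_isSquare hD hsq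
  obtain ⟨n, hn⟩ := ha.eq_pow_of_nonneg (a := Solution₁.mk X Y h) hX hY.le
  obtain ⟨m, hm⟩ := ha.eq_pow_of_nonneg (a := Solution₁.mk X0 Y0 h0) hX0 hY0
  have e1 : Y = (a ^ n).y := by rw [← hn]; rfl
  have e2 : Y0 = (a ^ m).y := by rw [← hm]; rfl
  rcases Nat.lt_trichotomy n 1 with h1 | h1 | h1
  · obtain rfl : n = 0 := by omega
    simp at e1; omega
  · subst h1
    rw [e2, y_pow_eq, e1, pow_one]
    exact dvd_mul_right _ _
  · exfalso
    obtain ⟨r, hr, k, hk⟩ := Nat.exists_prime_and_dvd (n := n) (by omega)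
    obtain ⟨l, rfl⟩ : ∃ l, k = l + 1 := Nat.exists_eq_succ_of_ne_zero fun h0 => by subst h0; omega
    have hy : 0 < (a ^ (l + 1)).y := Solution₁.y_pow_succ_pos ha.x_pos ha.2.1 l
    have hx : 1 < (a ^ (l + 1)).x := by
      by_contra hle
      have hx1 : (a ^ (l + 1)).x = 1 := by
        have := Solution₁.x_pow_pos ha.x_pos (l + 1)
        omega
      have := (a ^ (l + 1)).prop
      rw [hx1] at this
      have : 0 < D * (a ^ (l + 1)).y ^ 2 := by positivity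
      omega
    refine false_of_supp (a ^ (l + 1)) hr hD hx hy fun q hq hqd => hs q hq ?_
    rwa [← pow_mul, mul_comm, ← hk, ← e1] at hqd

end Pell

/-- `e` reduced to `1` or `2` with the same parity. -/
def red (e : ℕ) : ℕ := if e = 0 then 0 else if e % 2 = 1 then 1 else 2

theorem red_spec (e : ℕ) : red e ≤ 2 ∧ red e + 2 * ((e - red e) / 2) = e ∧
    (red e = 0 → (e - red e) / 2 = 0) := by
  unfold red; refine ⟨?_, ?_, fun h => ?_⟩ <;> split_ifs at * <;> omega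

/-- A Pell solution for each relevant exponent vector. -/
def table : List ((ℕ × ℕ × ℕ × ℕ) × ℕ × ℕ) :=
  [((1, 0, 0, 0), 3, 2), ((1, 0, 0, 1), 15, 4),
    ((1, 0, 0, 2), 99, 10), ((1, 0, 1, 0), 19, 6),
    ((1, 0, 1, 1), 251, 30), ((1, 0, 1, 2), 1039681, 46968),
    ((1, 0, 2, 0), 99, 14), ((1, 0, 2, 1), 449, 24),
    ((1, 0, 2, 2), 99, 2), ((1, 1, 0, 0), 5, 2),
    ((1, 1, 0, 1), 13, 2), ((1, 1, 0, 2), 4801, 280),
    ((1, 1, 1, 0), 11, 2), ((1, 1, 1, 1), 29, 2),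
    ((1, 1, 1, 2), 5291, 138), ((1, 1, 2, 0), 49, 4),
    ((1, 1, 2, 1), 8749, 270), ((1, 1, 2, 2), 4801, 56),
    ((1, 2, 0, 0), 17, 4), ((1, 2, 0, 1), 449, 40),
    ((1, 2, 0, 2), 19601, 660), ((1, 2, 1, 0), 19, 2),
    ((1, 2, 1, 1), 251, 10), ((1, 2, 1, 2), 1039681, 15656),
    ((1, 2, 2, 0), 19601, 924), ((1, 2, 2, 1), 449, 8),
    ((1, 2, 2, 2), 19601, 132), ((2, 0, 0, 1), 127, 24),
    ((2, 0, 1, 0), 9, 2), ((2, 0, 1, 1), 71, 6),
    ((2, 0, 1, 2), 51841, 1656), ((2, 0, 2, 1), 8193151, 309672),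
    ((2, 1, 0, 0), 7, 2), ((2, 1, 0, 1), 55, 6),
    ((2, 1, 0, 2), 97, 4), ((2, 1, 1, 0), 31, 4),
    ((2, 1, 1, 1), 41, 2), ((2, 1, 1, 2), 119071, 2196),
    ((2, 1, 2, 0), 1351, 78), ((2, 1, 2, 1), 6049, 132),
    ((2, 1, 2, 2), 3650401, 30108), ((2, 2, 0, 1), 127, 8),
    ((2, 2, 1, 0), 161, 12), ((2, 2, 1, 1), 71, 2),
    ((2, 2, 1, 2), 51841, 552), ((2, 2, 2, 1), 8193151, 103224)]

/-- The exponent of `q` in `n` (bounded search). -/
def expo (q n : ℕ) : ℕ → ℕ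
  | 0 => 0
  | f + 1 => if n % q = 0 then expo q (n / q) f + 1 else 0

/-- The integer square root below `2 ^ 48`. -/
def isq (n : ℕ) : ℕ := (List.range 25).foldl (fun r i =>
  if (r + 2 ^ (24 - i)) * (r + 2 ^ (24 - i)) ≤ n then r + 2 ^ (24 - i) else r) 0

/-- One table entry is right. -/
def rowOK (t : (ℕ × ℕ × ℕ × ℕ) × ℕ × ℕ) : Bool :=
  let D := num t.1
  let Y0 := t.2.2
  let rg := fun (q : ℕ) (e : ℕ) => List.range ((if e = 0 then 0 else expo q Y0 30) + 1)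
  decide (0 < Y0) && decide (t.2.1 * t.2.1 = 1 + D * (Y0 * Y0)) &&
    (decide (t.1.1 = 0) || decide (Y0 % 2 ^ (expo 2 Y0 30 + 1) ≠ 0)) &&
    (decide (t.1.2.1 = 0) || decide (Y0 % 3 ^ (expo 3 Y0 30 + 1) ≠ 0)) &&
    (decide (t.1.2.2.1 = 0) || decide (Y0 % 5 ^ (expo 5 Y0 30 + 1) ≠ 0)) &&
    (decide (t.1.2.2.2 = 0) || decide (Y0 % 7 ^ (expo 7 Y0 30 + 1) ≠ 0)) &&
    (rg 2 t.1.1).all fun a => (rg 3 t.1.2.1).all fun b => (rg 5 t.1.2.2.1).all fun c =>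
      (rg 7 t.1.2.2.2).all fun d =>
        let y := num (a, b, c, d)
        let u := 1 + D * (y * y)
        let r := isq u
        decide (u < (r + 1) * (r + 1)) &&
          (decide (r * r < u) || decide (r * r = u) && pairList.contains ((r - 1) / 2))

theorem table_ok : table.all rowOK = true := by decide +kernel

theorem table_complete : ([1, 2] : List ℕ).all (fun a => (List.range 3).all fun b => (List.range 3).all fun c =>
    (List.range 3).all fun d => decide (a ≠ 1 ∧ b ≠ 1 ∧ c ≠ 1 ∧ d ≠ 1) ||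
      (table.map Prod.fst).contains (a, b, c, d)) = true := by decide +kernel

/-- The consecutive pairs of `7`-smooth numbers. -/
theorem smooth_pairs {x : ℕ} (hx0 : 0 < x) (h1 : Smooth7 x) (h2 : Smooth7 (x + 1)) : x ∈ pairList := by
  obtain ⟨e, he⟩ := exists_exp (n := 4 * (x * (x + 1))) (by positivity) fun q hq hd => by
    rcases hq.dvd_mul.mp hd with h | h
    · exact Or.inl ((Nat.prime_dvd_prime_iff_eq hq Nat.prime_two).mp (hq.dvd_of_dvd_pow (show q ∣ 2 ^ 2 from h)))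
    · rcases hq.dvd_mul.mp h with h | h
      · exact h1 q hq h
      · exact h2 q hq h
  obtain ⟨e1, e2, e3, e4⟩ := e
  obtain ⟨l1, s1, z1⟩ := red_spec e1
  obtain ⟨l2, s2, z2⟩ := red_spec e2
  obtain ⟨l3, s3, z3⟩ := red_spec e3
  obtain ⟨l4, s4, z4⟩ := red_spec e4
  generalize red e1 = a, (e1 - red e1) / 2 = g1 at l1 s1 z1
  generalize red e2 = b, (e2 - red e2) / 2 = g2 at l2 s2 z2
  generalize red e3 = c, (e3 - red e3) / 2 = g3 at l3 s3 z3
  generalize red e4 = d, (e4 - red e4) / 2 = g4 at l4 s4 z4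
  subst s1 s2 s3 s4
  have hX : (2 * x + 1) * (2 * x + 1) = 1 + num (a, b, c, d) * (num (g1, g2, g3, g4) * num (g1, g2, g3, g4)) := by
    have h : (2 * x + 1) * (2 * x + 1) = 1 + 4 * (x * (x + 1)) := by ring
    rw [h, he]; simp only [num, pow_add, pow_mul']; ring
  set Y := num (g1, g2, g3, g4) with hYdef
  set D := num (a, b, c, d) with hDdef
  have hY0 : 0 < Y := by rw [hYdef, num]; positivity
  have hD0 : 0 < D := by rw [hDdef, num]; positivity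
  have ha : a ≠ 0 := by
    intro h0
    have := z1 h0
    subst h0 this
    have h : 2 ∣ num (0 + 2 * 0, b + 2 * g2, c + 2 * g3, d + 2 * g4) := he ▸ ⟨2 * (x * (x + 1)), by ring⟩
    rcases prime_dvd_num Nat.prime_two h with h | h | h | h
    · exact h.2 rfl
    all_goals exact absurd h.1 (by norm_num)
  have hsq : ¬ IsSquare (D : ℤ) := by
    rintro ⟨s, hs⟩
    have h : ((2 * x + 1 : ℤ) - s * Y) * ((2 * x + 1 : ℤ) + s * Y) = 1 := by
      have hz : ((2 * x + 1 : ℤ)) * (2 * x + 1) = 1 + (D : ℤ) * (Y * Y) := by exact_mod_cast hX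
      rw [hs] at hz; linear_combination hz
    rcases Int.eq_one_or_neg_one_of_mul_eq_one' h with ⟨ha, hb⟩ | ⟨ha, hb⟩ <;> omega
  have hmem : (a, b, c, d) ∈ table.map Prod.fst := by
    have h := table_complete
    simp only [List.all_eq_true, List.mem_range, Bool.or_eq_true, decide_eq_true_eq,
      List.contains_iff_mem] at h
    refine (h a (by simp; omega) b (by omega) c (by omega) d (by omega)).resolve_left ?_
    rintro ⟨n1, n2, n3, n4⟩
    refine hsq ?_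
    obtain ⟨a', rfl⟩ : ∃ i, a = 2 * i := ⟨a / 2, by omega⟩
    obtain ⟨b', rfl⟩ : ∃ i, b = 2 * i := ⟨b / 2, by omega⟩
    obtain ⟨c', rfl⟩ : ∃ i, c = 2 * i := ⟨c / 2, by omega⟩
    obtain ⟨d', rfl⟩ : ∃ i, d = 2 * i := ⟨d / 2, by omega⟩
    refine ⟨(num (a', b', c', d') : ℤ), ?_⟩
    rw [hDdef]; simp only [num, pow_mul']; push_cast; ring
  obtain ⟨⟨e', X0, Y0⟩, ht, he'⟩ := List.mem_map.mp hmem
  subst he'
  have hrow := List.all_eq_true.mp table_ok _ ht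
  simp only [rowOK, Bool.and_eq_true, decide_eq_true_eq, List.all_eq_true, List.mem_range,
    Bool.or_eq_true, List.contains_iff_mem] at hrow
  obtain ⟨⟨⟨⟨⟨⟨hY0', hP0⟩, v2⟩, v3⟩, v5⟩, v7⟩, hall⟩ := hrow
  have hdvd : Y ∣ Y0 := by
    have h := y_dvd (D := (D : ℤ)) (X := (2 * x + 1 : ℤ)) (Y := (Y : ℤ)) (X0 := (X0 : ℤ)) (Y0 := (Y0 : ℤ))
      (by exact_mod_cast hD0) hsq
      (by have hz : ((2 * x + 1 : ℤ)) * (2 * x + 1) = 1 + (D : ℤ) * (Y * Y) := by exact_mod_cast hX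
          linear_combination hz)
      (by positivity) (by exact_mod_cast hY0)
      (by have hz : (X0 : ℤ) * X0 = 1 + (D : ℤ) * (Y0 * Y0) := by exact_mod_cast hP0
          linear_combination hz)
      (by
        rcases Nat.eq_zero_or_pos X0 with rfl | h
        · exact absurd hP0 (by omega)
        · exact_mod_cast h) (by positivity) fun q hq hqd => by
        have hqd' : q ∣ Y := by exact_mod_cast hqd
        refine Int.natCast_dvd_natCast.mpr ?_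
        rcases prime_dvd_num hq hqd' with ⟨rfl, h⟩ | ⟨rfl, h⟩ | ⟨rfl, h⟩ | ⟨rfl, h⟩
        · exact (dvd_pow_self 2 (fun h0 => h (z1 h0))).trans (hDdef ▸ (pow_dvd_num (a, b, c, d)).1)
        · exact (dvd_pow_self 3 (fun h0 => h (z2 h0))).trans (hDdef ▸ (pow_dvd_num (a, b, c, d)).2.1)
        · exact (dvd_pow_self 5 (fun h0 => h (z3 h0))).trans (hDdef ▸ (pow_dvd_num (a, b, c, d)).2.2.1)
        · exact (dvd_pow_self 7 (fun h0 => h (z4 h0))).trans (hDdef ▸ (pow_dvd_num (a, b, c, d)).2.2.2)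
    exact_mod_cast h
  have bound : ∀ {q e g : ℕ}, 1 < q → q ^ g ∣ Y → (e = 0 → g = 0) →
      (e = 0 ∨ Y0 % q ^ (expo q Y0 30 + 1) ≠ 0) → g < (if e = 0 then 0 else expo q Y0 30) + 1 := by
    intro q e g hq hg hz hv
    split_ifs with h0
    · have := hz h0; omega
    · by_contra hlt
      exact hv.resolve_left h0 (Nat.mod_eq_zero_of_dvd ((pow_dvd_pow q (Nat.le_of_not_lt hlt)).trans (hg.trans hdvd)))
  have hc := hall g1 (bound one_lt_two (hYdef ▸ (pow_dvd_num (g1, g2, g3, g4)).1) z1 v2)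
    g2 (bound (by norm_num) (hYdef ▸ (pow_dvd_num (g1, g2, g3, g4)).2.1) z2 v3)
    g3 (bound (by norm_num) (hYdef ▸ (pow_dvd_num (g1, g2, g3, g4)).2.2.1) z3 v5)
    g4 (bound (by norm_num) (hYdef ▸ (pow_dvd_num (g1, g2, g3, g4)).2.2.2) z4 v7)
  rw [← hYdef, ← hDdef] at hc
  obtain ⟨hlt, hc⟩ := hc
  set r := isq (1 + D * (Y * Y))
  rcases hc with hc | ⟨hc, hmem'⟩
  · exfalso
    rw [← hX] at hlt hc
    have := Nat.mul_self_lt_mul_self_iff.mp hc
    have := Nat.mul_self_lt_mul_self_iff.mp hlt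
    omega
  · rw [← hX] at hc
    have hrx : r = 2 * x + 1 := Nat.mul_self_inj.mp hc
    rw [hrx] at hmem'
    simpa using hmem'

end CfsgLib.IndexTwoSmooth
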