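import Cfsg.Agent.Lib.IndexTwoSmooth.Defs
import Cfsg.Agent.Lib.IndexTwoSmooth.Smooth

/-!
# Simple groups with a large prime of index two: the finite search
-/

set_option autoImplicit false
set_option maxRecDepth 100000

namespace CfsgLib.IndexTwoSmooth

/-- The numbers `(p, k, x, z, cg, δ, A)`. -/
abbrev Tup := ℕ × ℕ × ℕ × ℕ × ℕ × ℤ × ℤ

/-- The exponent of the largest power of `q` below `n` (bounded search). -/
def lg (q n : ℕ) : ℕ → ℕ
  | 0 => 0
  | f + 1 => if q < n then lg q ((n + q - 1) / q) f + 1 else 0

/-- An integer square root below `2 ^ 50`. -/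
def isq2 (n : ℕ) : ℕ := (List.range 50).foldl (fun r i =>
  if (r + 2 ^ (49 - i)) * (r + 2 ^ (49 - i)) ≤ n then r + 2 ^ (49 - i) else r) 0

/-- The degrees and signs. -/
def xdList : List (ℕ × ℤ) :=
  (pairList.map fun a => (a, (1 : ℤ))) ++ (pairList.map fun a => (a + 1, (-1 : ℤ)))

/-- The possible exponents of `q` in `k`. -/
def exps (q p x z : ℕ) : List ℕ :=
  if q = p then [0] else
    0 :: (List.range (2 * lg q (2 * x) 20 + 1)).filter fun a =>
      decide (0 < a) && decide ((x * z) % q ^ (2 * lg q (2 * x) 20 + 1 - a) ≠ 0)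

/-- An element of order `q` central in a Sylow subgroup has a possible centralizer and value. -/
def fullOpt (t : Tup) (q a : ℕ) : Bool :=
  let (p, k, x, z, cg, δ, A) := t
  (List.range (2 * x)).any fun i =>
    let B : ℤ := (i : ℤ) - x
    let T := cg * ((x : ℤ) - B).natAbs
    let D := ((x : ℤ) - A).natAbs
    let c := Nat.gcd (T / D) k
    decide (0 < i) && decide ((B - x) % q = 0) && (decide (x % q ^ a ≠ 0) || decide (B = 0)) &&
      (decide (z % q ^ a ≠ 0) || decide (B = -δ)) &&
      decide (0 ≤ (x : ℤ) + ((q : ℤ) - 1) * B) && decide (0 ≤ (z : ℤ) + ((q : ℤ) - 1) * (B + δ)) &&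
      decide (T % D = 0) && decide (T / D % q ^ a = 0) &&
      decide (1 + B ^ 2 + ((p - 1) / 2 : ℕ) * (1 + δ * B) ^ 2 ≤ (c : ℤ)) &&
      decide (((p * (k / c) : ℕ) : ℤ) * (B * (B + δ)) ≤ (k : ℤ) - x * z)

/-- Some prime `q` with `q ^ a` exactly dividing `k` has no full option. -/
def noFull (t : Tup) : Bool :=
  ([(3, 1), (3, 2), (3, 3), (3, 4), (3, 5), (3, 6), (3, 7), (3, 8), (3, 9), (3, 10), (3, 11), (3, 12),
    (5, 1), (5, 2), (5, 3), (5, 4), (5, 5), (5, 6), (5, 7), (5, 8), (5, 9), (5, 10),
    (7, 1), (7, 2), (7, 3), (7, 4), (7, 5), (7, 6), (7, 7), (7, 8)] : List (ℕ × ℕ)).any fun qa =>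
      decide (qa.1 ≠ t.1) && decide (t.2.1 % qa.1 ^ qa.2 = 0) && decide (t.2.1 % qa.1 ^ (qa.2 + 1) ≠ 0) &&
        !fullOpt t qa.1 qa.2

/-- The weight of the involutions is too large. -/
def weightBad (t : Tup) : Bool :=
  let (p, k, x, z, cg, δ, A) := t
  decide ((k : ℤ) - x * z < ((p * (k / cg) : ℕ) : ℤ) * (A * (A + δ)))

/-- The tuples with their unit, the bound and a set of sums closed under the weights. -/
def sumTable : List (Tup × ℕ × ℕ × ℕ) :=
  [((11, 850500, 21, 20, 900, -1, 1), 4620, 184,
      17610752343362184649851652959707906473596851214146895873),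
    ((17, 18144000, 35, 36, 3840, 1, 3), 21420, 847,
      300946898413123099411926846566697943753342016208448187690214230789977408964440615338831746879122928629674911509673024453339217016192070401243175219702587028526253668211543960509770853178625233534331524224165292933458487603723503137981824085667449260736513),
    ((5, 190512, 49, 48, 432, -1, 1), 11760, 16,
      54817),
    ((13, 2520000, 64, 63, 1600, -1, 0), 52416, 48,
      53911537878049),
    ((13, 44452800, 64, 63, 6720, -1, 0), 52416, 848,
      975386044687224833024569275886763548173115846205612971394063069484328557692620494131950686667001878561533756280110859435313104744439142900017291921318296679385809508078415918533407564526050160487186145652053573204338181577055904717509920076654814819254273)]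

/-- The divisors of `k` that are `7`-smooth. -/
def divs (k : ℕ) : List ℕ :=
  ((List.range 9).flatMap fun a => (List.range 8).flatMap fun b => (List.range 6).flatMap fun c =>
    (List.range 5).map fun d => 2 ^ a * 3 ^ b * 5 ^ c * 7 ^ d).filter fun n => decide (k % n = 0)

/-- The weights cannot add up. -/
def sumBad (t : Tup) (g lim R : ℕ) : Bool :=
  let (p, k, x, z, cg, δ, A) := t
  decide (0 < g) && decide ((k : ℤ) - x * z = (g * lim : ℕ)) && R.testBit 0 && !R.testBit lim &&
    decide (k % 2 ^ 9 ≠ 0 ∧ k % 3 ^ 8 ≠ 0 ∧ k % 5 ^ 6 ≠ 0 ∧ k % 7 ^ 5 ≠ 0) &&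
    (divs k).all fun c => (List.range (2 * x)).all fun i =>
      let B : ℤ := (i : ℤ) - x
      let T := cg * ((x : ℤ) - B).natAbs
      let D := ((x : ℤ) - A).natAbs
      let W := p * (k / c) * (B * (B + δ)).toNat
      decide (c < 2) || decide (i = 0) || decide (T % (c * D) ≠ 0) ||
        decide ((c : ℤ) < 1 + B ^ 2 + ((p - 1) / 2 : ℕ) * (1 + δ * B) ^ 2) || decide (g * lim < W) ||
        (decide (W % g = 0) && decide (((R <<< (W / g)) &&& (2 ^ (lim + 1) - 1)) ||| R = R))

/-- The case treated separately. -/
def specialTup : Tup := (13, 472500, 27, 28, 700, 1, -1)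

/-- The tuple leads to a contradiction or to one of the cases identified. -/
def verdict (t : Tup) : Bool :=
  let (p, k, x, z, cg, δ, A) := t
  (citList.contains (p * k) && decide (2 ^ 7 % cg = 0)) ||
    (decide (k = x * z) && likeList.contains (p, x, z) &&
      (if x % 2 = 0 then decide (A = 0 ∧ cg = x) else decide (A = -δ ∧ cg = z))) ||
    weightBad t || noFull t || decide (t = specialTup) ||
    sumTable.any fun e => decide (e.1 = t) && sumBad t e.2.1 e.2.2.1 e.2.2.2

/-- Every candidate for given `x`, `δ`, `p` and `k` has a verdict. -/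
def checkK (x : ℕ) (δ : ℤ) (z p k : ℕ) : Bool :=
  decide (k % x ≠ 0) || decide (k % z ≠ 0) || decide (k % 2 ≠ 0) || decide (k / 2 % p ≠ 1) ||
    decide (p * k ≤ x * x) ||
    (let K := (((x : ℤ) + ((p : ℤ) - 1) * δ) / p).toNat
     (List.range (2 * K + 1)).all fun i =>
      let A : ℤ := (i : ℤ) - K
      let U := k * ((x : ℤ) - A).natAbs ^ 2
      let r := isq2 (U / (x * z))
      decide (((x : ℤ) - A) % 4 ≠ 0) || decide (A = (x : ℤ)) || decide (U % (x * z) ≠ 0) ||
        (decide (r * r < U / (x * z)) && decide (U / (x * z) < (r + 1) * (r + 1))) ||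
        (decide (r * r = U / (x * z)) &&
          (decide (k % r ≠ 0) || (List.range 30).any (fun b => decide (k % 2 ^ b = 0) && decide (r % 2 ^ b ≠ 0)) ||
            verdict (p, k, x, z, r, δ, A))))

/-- Every candidate for given `x` and `δ` has a verdict. -/
def checkX (xd : ℕ × ℤ) : Bool :=
  let x := xd.1
  let δ := xd.2
  let z := ((x : ℤ) + δ).toNat
  decide (x < 2) || (([2, 3, 5, 7] : List ℕ).all fun q => decide (2 * x ≤ q ^ (lg q (2 * x) 20 + 1))) &&
    (List.range (x + 3)).all fun p =>
      decide (p < 5) || decide (((x : ℤ) - δ) % p ≠ 0) || decide (x * z % p = 0) ||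
        (List.range p).any (fun i => decide (2 ≤ i) && decide (p % i = 0)) ||
        (exps 2 p x z).all fun a => (exps 3 p x z).all fun b => (exps 5 p x z).all fun c =>
          (exps 7 p x z).all fun d => checkK x δ z p (num (a, b, c, d))

theorem ok0 : ((xdList.drop 0).take 2).all checkX = true := by decide +kernel

theorem ok2 : ((xdList.drop 2).take 2).all checkX = true := by decide +kernel

theorem ok4 : ((xdList.drop 4).take 2).all checkX = true := by decide +kernel

theorem ok6 : ((xdList.drop 6).take 2).all checkX = true := by decide +kernel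

theorem ok8 : ((xdList.drop 8).take 2).all checkX = true := by decide +kernel

theorem ok10 : ((xdList.drop 10).take 2).all checkX = true := by decide +kernel

theorem ok12 : ((xdList.drop 12).take 2).all checkX = true := by decide +kernel

theorem ok14 : ((xdList.drop 14).take 2).all checkX = true := by decide +kernel

theorem ok16 : ((xdList.drop 16).take 2).all checkX = true := by decide +kernel

theorem ok18 : ((xdList.drop 18).take 2).all checkX = true := by decide +kernel

theorem ok20 : ((xdList.drop 20).take 2).all checkX = true := by decide +kernel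

theorem ok22 : ((xdList.drop 22).take 2).all checkX = true := by decide +kernel

theorem ok24 : ((xdList.drop 24).take 2).all checkX = true := by decide +kernel

theorem ok26 : ((xdList.drop 26).take 2).all checkX = true := by decide +kernel

theorem ok28 : ((xdList.drop 28).take 2).all checkX = true := by decide +kernel

theorem ok30 : ((xdList.drop 30).take 2).all checkX = true := by decide +kernel

theorem ok32 : ((xdList.drop 32).take 2).all checkX = true := by decide +kernel

theorem ok34 : ((xdList.drop 34).take 2).all checkX = true := by decide +kernel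

theorem ok36 : ((xdList.drop 36).take 2).all checkX = true := by decide +kernel

theorem ok38 : ((xdList.drop 38).take 2).all checkX = true := by decide +kernel

theorem ok40 : ((xdList.drop 40).take 2).all checkX = true := by decide +kernel

theorem ok42 : ((xdList.drop 42).take 2).all checkX = true := by decide +kernel

theorem ok44 : ((xdList.drop 44).take 2).all checkX = true := by decide +kernel

theorem all_ok : xdList.all checkX = true := by
  have h : xdList = (xdList.drop 0).take 2 ++ (xdList.drop 2).take 2 ++ (xdList.drop 4).take 2 ++ (xdList.drop 6).take 2 ++ (xdList.drop 8).take 2 ++ (xdList.drop 10).take 2 ++ (xdList.drop 12).take 2 ++ (xdList.drop 14).take 2 ++ (xdList.drop 16).take 2 ++ (xdList.drop 18).take 2 ++ (xdList.drop 20).take 2 ++ (xdList.drop 22).take 2 ++ (xdList.drop 24).take 2 ++ (xdList.drop 26).take 2 ++ (xdList.drop 28).take 2 ++ (xdList.drop 30).take 2 ++ (xdList.drop 32).take 2 ++ (xdList.drop 34).take 2 ++ (xdList.drop 36).take 2 ++ (xdList.drop 38).take 2 ++ (xdList.drop 40).take 2 ++ (xdList.drop 42).take 2 ++ (xdList.drop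 44).take 2 := by decide +kernel
  rw [h]
  simp only [List.all_append, ok0, ok2, ok4, ok6, ok8, ok10, ok12, ok14, ok16, ok18, ok20, ok22, ok24, ok26, ok28, ok30, ok32, ok34, ok36, ok38, ok40, ok42, ok44, Bool.and_self]

end CfsgLib.IndexTwoSmooth
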