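import Cfsg.Agent.Lib.IndexTwoSmooth.Facts

/-!
# Simple groups with a large prime of index two: the sums by conjugacy classes
-/

set_option autoImplicit false
set_option linter.unusedSectionVars false

namespace CfsgLib.IndexTwoSmooth

open CfsgLib
open scoped _root_.Classical

universe u

variable {G : Type u} [Group G] [Fintype G]

/-- `B (B + d)` is never negative for a sign `d`. -/
theorem weight_nonneg {d : ℤ} (hd : d = 1 ∨ d = -1) (B : ℤ) : 0 ≤ B * (B + d) := by
  rcases le_total 0 B with hB | hB <;> rcases hd with rfl | rfl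
  · exact mul_nonneg hB (by omega)
  · rcases eq_or_lt_of_le hB with rfl | h
    · simp
    · exact mul_nonneg hB (by omega)
  · rcases eq_or_lt_of_le hB with rfl | h
    · simp
    · exact mul_nonneg_of_nonpos_of_nonpos hB (by omega)
  · exact mul_nonneg_of_nonpos_of_nonpos hB (by omega)

theorem cord_conj (c y : G) : cord (c * y * c⁻¹) = cord y := by
  have h1 := (Subgroup.centralizer ({c * y * c⁻¹} : Set G)).card_mul_index
  have h2 := (Subgroup.centralizer ({y} : Set G)).card_mul_index
  rw [← Char.card_isConj_eq_index] at h1 h2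
  have hc : IsConj y (c * y * c⁻¹) := isConj_iff.mpr ⟨c, rfl⟩
  rw [show (fun a => IsConj a (c * y * c⁻¹)) = fun a => IsConj a y from
    funext fun a => propext ⟨fun h => h.trans hc.symm, fun h => h.trans hc⟩] at h1
  exact Nat.eq_of_mul_eq_mul_right (Nat.pos_of_ne_zero fun h0 => by
    rw [h0, mul_zero] at h2; exact Nat.card_pos.ne' h2.symm) (h1.trans h2.symm)

theorem reg_conj {p : ℕ} (c : G) {y : G} (hy : y ∈ reg G p) : c * y * c⁻¹ ∈ reg G p := by
  obtain ⟨h1, h2⟩ := mem_reg.mp hy
  refine mem_reg.mpr ⟨fun e => h1 (conj_eq_one_iff.mp e), ?_⟩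
  rwa [SemiconjBy.orderOf_eq c (x := y) (y := c * y * c⁻¹) (by simp [SemiconjBy])] at h2

variable {p k x z cg : ℕ} {d A : ℤ} {val : G → ℤ}

theorem two_le_cord {y : G} (hy : y ∈ reg G p) : 2 ≤ cord y := by
  have h1 : orderOf y ∣ cord y := by
    have := orderOf_dvd_natCard (⟨y, Subgroup.mem_centralizer_singleton_iff.mpr rfl⟩ :
      Subgroup.centralizer ({y} : Set G))
    rwa [Subgroup.orderOf_mk] at this
  have h2 : orderOf y ≠ 1 := fun e => (mem_reg.mp hy).1 (orderOf_eq_one_iff.mp e)
  have h3 := orderOf_pos y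
  have h4 := Nat.le_of_dvd Nat.card_pos h1
  unfold cord at h4 ⊢
  omega

/-- The size of the class of a regular element. -/
theorem Num.class_card (h : Num G p k x z cg d A val) {y : G} (hy : y ∈ reg G p) :
    (Finset.univ.filter fun a => IsConj a y).card = p * (k / cord y) := by
  rw [← Fintype.card_subtype, ← Nat.card_eq_fintype_card, Char.card_isConj_eq_index]
  have h2 := (Subgroup.centralizer ({y} : Set G)).card_mul_index
  obtain ⟨m, hm⟩ := h.cdvd y hy
  rw [h.card, hm, show p * (cord y * m) = cord y * (p * m) by ring] at h2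
  have h0 : 0 < cord y := Nat.card_pos
  rw [Nat.eq_of_mul_eq_mul_left h0 h2, hm, Nat.mul_div_cancel_left _ h0]

/-- A chosen element of a class. -/
noncomputable def rep (C : ConjClasses G) : G := Quotient.out C

theorem mk_rep (C : ConjClasses G) : ConjClasses.mk (rep C) = C := Quotient.out_eq C

/-- A sum over a union of classes of regular elements, class by class. -/
theorem Num.sum_classes (h : Num G p k x z cg d A val) {s : Finset G} (hs : s ⊆ reg G p)
    (hsc : ∀ c, ∀ y ∈ s, c * y * c⁻¹ ∈ s) (f : G → ℤ) (hf : ∀ c, ∀ y, f (c * y * c⁻¹) = f y) :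
    ∑ y ∈ s, f y = ∑ C ∈ s.image ConjClasses.mk,
      ((p * (k / cord (rep C)) : ℕ) : ℤ) * f (rep C) := by
  rw [← Finset.sum_fiberwise_of_maps_to (g := ConjClasses.mk)
    (fun y hy => Finset.mem_image_of_mem ConjClasses.mk hy) f]
  refine Finset.sum_congr rfl fun C hC => ?_
  obtain ⟨y, hy, rfl⟩ := Finset.mem_image.mp hC
  set w := rep (ConjClasses.mk y) with hw
  have hwy : IsConj w y := ConjClasses.mk_eq_mk_iff_isConj.mp (mk_rep _)
  obtain ⟨c, hc⟩ := isConj_iff.mp hwy.symm
  have hws : w ∈ s := hc ▸ hsc c y hy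
  have hfib : (s.filter fun a => ConjClasses.mk a = ConjClasses.mk y) =
      Finset.univ.filter fun a => IsConj a w := by
    ext a
    simp only [Finset.mem_filter, Finset.mem_univ, true_and, ConjClasses.mk_eq_mk_iff_isConj]
    refine ⟨fun ha => ha.2.trans hwy.symm, fun ha => ⟨?_, ha.trans hwy⟩⟩
    obtain ⟨e, he⟩ := isConj_iff.mp ha.symm
    exact he ▸ hsc e w hws
  rw [hfib, Finset.sum_congr rfl (g := fun _ => f w) (fun a ha => by
    obtain ⟨e, he⟩ := isConj_iff.mp (Finset.mem_filter.mp ha).2.symm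
    rw [← he, hf]), Finset.sum_const, h.class_card (hs hws), nsmul_eq_mul]

/-- The classes of regular elements as a list of pairs (centralizer order, value). -/
theorem class_list (h : Num G p k x z cg d A val) : ∃ l : List (ℕ × ℤ),
    (∀ o ∈ l, o.1 ∣ k ∧ 2 ≤ o.1 ∧ |o.2| < (x : ℤ) ∧
      (o.1 : ℤ) * ((x : ℤ) - A) ∣ (cg : ℤ) * ((x : ℤ) - o.2) ∧
      1 + o.2 ^ 2 + ((p - 1) / 2 : ℕ) * (1 + d * o.2) ^ 2 ≤ (o.1 : ℤ)) ∧
    (l.map fun o => ((p * (k / o.1) : ℕ) : ℤ) * (o.2 * (o.2 + d))).sum = (k : ℤ) - x * z := by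
  refine ⟨((reg G p).image ConjClasses.mk).toList.map fun C =>
    (cord (rep C), val (rep C)), ?_, ?_⟩
  · intro o ho
    obtain ⟨C, hC, rfl⟩ := List.mem_map.mp ho
    obtain ⟨y, hy, rfl⟩ := Finset.mem_image.mp (Finset.mem_toList.mp hC)
    obtain ⟨c, hc⟩ := isConj_iff.mp
      (ConjClasses.mk_eq_mk_iff_isConj.mp (mk_rep (ConjClasses.mk y))).symm
    have hw : rep (ConjClasses.mk y) ∈ reg G p := hc ▸ reg_conj c hy
    exact ⟨h.cdvd _ hw, two_le_cord hw, h.bound _ hw, h.divB _ hw, h.column _ hw⟩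
  · rw [List.map_map, ← h.ident, h.sum_classes subset_rfl (fun c y hy => reg_conj c hy)
      (fun y => val y * (val y + d)) (fun c y => by rw [h.cls]), ← Finset.sum_map_toList]
    rfl

/-- No class weighs more than the total. -/
theorem class_weight_le (h : Num G p k x z cg d A val) {y : G} (hy : y ∈ reg G p) :
    ((p * (k / cord y) : ℕ) : ℤ) * (val y * (val y + d)) ≤ (k : ℤ) - x * z := by
  rw [← h.ident, ← h.class_card hy]
  calc (((Finset.univ.filter fun a => IsConj a y).card : ℕ) : ℤ) * (val y * (val y + d))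
      = ∑ a ∈ Finset.univ.filter (fun a => IsConj a y), val a * (val a + d) := by
        rw [Finset.sum_congr rfl (g := fun _ => val y * (val y + d)) (fun a ha => by
          obtain ⟨e, he⟩ := isConj_iff.mp (Finset.mem_filter.mp ha).2.symm
          rw [← he, h.cls]), Finset.sum_const, nsmul_eq_mul]
    _ ≤ ∑ a ∈ reg G p, val a * (val a + d) := by
        refine Finset.sum_le_sum_of_subset_of_nonneg (fun a ha => ?_) fun a _ _ =>
          weight_nonneg h.sign _
        obtain ⟨e, he⟩ := isConj_iff.mp (Finset.mem_filter.mp ha).2.symm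
        exact he ▸ reg_conj e hy

end CfsgLib.IndexTwoSmooth
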