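import Cfsg.Agent.Lib.BrauerTuan.Identify

/-!
# Simple groups with a large prime of index two: vocabulary
-/

set_option autoImplicit false

namespace CfsgLib.IndexTwoSmooth

universe u

/-- `G` is `PSL(2, q)` for the field with `q` elements. -/
def IsL2 (G : Type u) [Group G] (q : ℕ) : Prop :=
  ∃ (F : Type) (_ : Field F) (_ : Fintype F), Fintype.card F = q ∧
    Nonempty (G ≃* Matrix.ProjectiveSpecialLinearGroup (Fin 2) F)

/-- The groups in the conclusion. -/
def Concl (G : Type u) [Group G] : Prop :=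
  IsL2 G 5 ∨ IsL2 G 7 ∨ IsL2 G 9 ∨ IsL2 G 8 ∨ IsL2 G 16 ∨ IsL2 G 25 ∨ IsL2 G 27 ∨ IsL2 G 81 ∨
    IsL2 G 2401 ∨
    ∃ (F : Type) (_ : Field F) (_ : Fintype F), Fintype.card F = 4 ∧
      Nonempty (G ≃* Matrix.ProjectiveSpecialLinearGroup (Fin 3) F)

/-- The order is `p x z` with `x`, `z` consecutive, and every `p`-regular element has a centralizer order
dividing `x` or `z`. -/
structure LikeCase (G : Type u) [Group G] (p x z : ℕ) : Prop where
  prime : p.Prime
  five_le : 5 ≤ p
  card : Nat.card G = p * (x * z)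
  consec : z = x + 1 ∨ x = z + 1
  cent : ∀ y : G, y ≠ 1 → ¬ p ∣ orderOf y →
    Nat.card (Subgroup.centralizer ({y} : Set G)) ∣ x ∨ Nat.card (Subgroup.centralizer ({y} : Set G)) ∣ z
  count : Nat.card {y : G // y ≠ 1 ∧ Nat.card (Subgroup.centralizer ({y} : Set G)) ∣ x} = x * x - 1
  invol : ∀ g : G, orderOf g = 2 →
    Nat.card (Subgroup.centralizer ({g} : Set G)) = if Even x then x else z
  norm : ∃ P : Subgroup G, Nat.card P = p ∧ Nat.card (Subgroup.normalizer (P : Set G)) = 2 * p

/-- The triples `(p, x, z)` of `LikeCase` that occur and have `x` or `z` no power of two. -/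
def likeList : List (ℕ × ℕ × ℕ) :=
  [(19, 20, 21), (11, 21, 20), (23, 24, 25), (13, 25, 24), (13, 27, 28), (29, 28, 27), (17, 35, 36),
    (37, 36, 35), (47, 48, 49), (5, 49, 48), (79, 80, 81), (41, 81, 80), (223, 224, 225),
    (113, 225, 224), (2399, 2400, 2401), (1201, 2401, 2400)]

/-- The orders of the surviving cases in which every involution has a two-group centralizer. -/
def citList : List ℕ := [60, 360, 504, 1680, 3360, 4080, 20160, 52416, 124992]

end CfsgLib.IndexTwoSmooth
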