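import Cfsg.Agent.Lib.BrauerTuan.Two
import Cfsg.Agent.Lib.BrauerTuan.Rational
import Cfsg.Agent.Lib.BrauerTuan.SmallCofactor
import Cfsg.Agent.Lib.OrderBlocks.Tools
import Cfsg.Agent.Lib.Char.DefectZero
import Cfsg.Agent.Lib.M12Order.Basic
import Cfsg.Agent.Lib.SmallOrder.PrimeDegree

/-!
# Simple groups with a large prime of index two: the two characters of the block
-/

set_option autoImplicit false
set_option linter.unusedSectionVars false
set_option linter.style.haveILetI false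

namespace CfsgLib.IndexTwoSmooth

open Cfsg
open scoped ComplexConjugate CfsgLib.Char
open CfsgLib
open scoped _root_.Classical

universe u

variable {G : Type u} [Group G] [Fintype G]

/-- The order of the centralizer. -/
noncomputable def cord (y : G) : ℕ := Nat.card (Subgroup.centralizer ({y} : Set G))

/-- The non-trivial `p`-regular elements. -/
noncomputable def reg (G : Type u) [Group G] [Fintype G] (p : ℕ) : Finset G :=
  Finset.univ.filter fun y => y ≠ 1 ∧ ¬ p ∣ orderOf y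

theorem mem_reg {p : ℕ} {y : G} : y ∈ reg G p ↔ y ≠ 1 ∧ ¬ p ∣ orderOf y := by simp [reg]

/-- The numbers attached to the two non-trivial characters `χ`, `ψ` of the principal block. -/
structure Num (G : Type u) [Group G] [Fintype G] (p k x z cg : ℕ) (δ A : ℤ) (val : G → ℤ) : Prop where
  hp : p.Prime
  five : 5 ≤ p
  card : Nat.card G = p * k
  ncop : ¬ p ∣ k
  two : 2 ≤ x
  sign : δ = 1 ∨ δ = -1
  zdef : (z : ℤ) = x + δ
  dvdx : x ∣ k
  dvdz : z ∣ k
  modp : (p : ℤ) ∣ (x : ℤ) - δ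
  kmod : ∃ n : ℕ, k = 2 * (1 + n * p)
  xbound : x * x < p * k
  fix : (p : ℤ) * |A| ≤ (x : ℤ) + ((p : ℤ) - 1) * δ
  four : (4 : ℤ) ∣ (x : ℤ) - A
  ne : A ≠ (x : ℤ)
  eqg : (cg : ℤ) ^ 2 * (x * z) = (k : ℤ) * ((x : ℤ) - A) ^ 2
  cgdvd : cg ∣ k
  cgtwo : ∀ b, 2 ^ b ∣ k → 2 ^ b ∣ cg
  invol : ∀ g : G, orderOf g = 2 → cord g = cg ∧ val g = A
  cls : ∀ c y : G, val (c * y * c⁻¹) = val y
  cdvd : ∀ y ∈ reg G p, cord y ∣ k
  bound : ∀ y ∈ reg G p, |val y| < (x : ℤ)
  divB : ∀ y ∈ reg G p, (cord y : ℤ) * ((x : ℤ) - A) ∣ (cg : ℤ) * ((x : ℤ) - val y)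
  column : ∀ y ∈ reg G p,
    1 + val y ^ 2 + ((p - 1) / 2 : ℕ) * (1 + δ * val y) ^ 2 ≤ (cord y : ℤ)
  pcongr : ∀ q j : ℕ, q.Prime → q ≠ p → ∀ y : G, orderOf y = q ^ j → (q : ℤ) ∣ val y - x
  vanishX : ∀ q n : ℕ, q.Prime → q ^ n ∣ x → ¬ q ^ (n + 1) ∣ p * k →
    ∀ y ∈ reg G p, q ∣ orderOf y → val y = 0
  vanishZ : ∀ q n : ℕ, q.Prime → q ^ n ∣ z → ¬ q ^ (n + 1) ∣ p * k →
    ∀ y ∈ reg G p, q ∣ orderOf y → val y = -δ
  multX : ∀ q : ℕ, q.Prime → q ≠ p → ∀ y : G, orderOf y = q →
    0 ≤ (x : ℤ) + ((q : ℤ) - 1) * val y ∧ 0 ≤ (z : ℤ) + ((q : ℤ) - 1) * (val y + δ)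
  card_reg : ((reg G p).card : ℤ) = (p : ℤ) * k - 1 - ((p - 1) / 2 : ℕ) * k
  sumsq : ∑ y ∈ reg G p, val y ^ 2 = (p : ℤ) * k - x * x - ((p - 1) / 2 : ℕ) * k
  ident : ∑ y ∈ reg G p, val y * (val y + δ) = (k : ℤ) - x * z
  norm : ∃ P : Subgroup G, Nat.card P = p ∧ Nat.card (Subgroup.normalizer (P : Set G)) = 2 * p

/-- The multiplicity of the eigenvalue one of an element of prime order with rational value. -/
theorem mult_one_nonneg {φ : G → ℂ} (hφ : IsCharacter G φ) {q : ℕ} (hq : q.Prime) {y : G}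
    (hy : orderOf y = q) {d : ℕ} (hd : φ 1 = d) {B : ℤ} (hB : φ y = B) :
    0 ≤ (d : ℤ) + ((q : ℤ) - 1) * B := by
  set H := Subgroup.zpowers y with hH
  have hc : Nat.card H = q := by rw [Nat.card_zpowers, hy]
  haveI := Fact.mk hq
  obtain ⟨K, hK⟩ := M12Order.exists_nat_sum_subgroup hφ H
  have hval : ∀ w : H, w ≠ 1 → φ (w : G) = B := by
    intro w hw
    have hyH : y ∈ H := Subgroup.mem_zpowers y
    obtain ⟨j, hj⟩ := Submonoid.mem_powers_iff _ _ |>.mp
      ((isOfFinOrder_of_finite y).mem_powers_iff_mem_zpowers.mpr w.2)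
    have hjq : j.Coprime q := (hq.coprime_iff_not_dvd.mpr fun h => hw (Subtype.ext (by
      rw [← hj, OneMemClass.coe_one, orderOf_dvd_iff_pow_eq_one.mp (hy.symm ▸ h)]))).symm
    have h := (Char.rat_value_iff (Char.isCharacter_restrict H hφ) (⟨y, hyH⟩ : H)).mp
      ⟨(B : ℚ), by simpa using hB⟩ j (hc.symm ▸ hjq)
    simpa [hj, hB] using h
  rw [← Finset.add_sum_erase _ _ (Finset.mem_univ (1 : H)),
    Finset.sum_congr rfl (g := fun _ => (B : ℂ)) (fun w hw => hval w (Finset.ne_of_mem_erase hw)),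
    Finset.sum_const, Finset.card_erase_of_mem (Finset.mem_univ _), Finset.card_univ,
    ← Nat.card_eq_fintype_card, hc, OneMemClass.coe_one, hd] at hK
  have h2 : (((d : ℤ) + ((q : ℤ) - 1) * B : ℤ) : ℂ) = (((q * K : ℕ) : ℤ) : ℂ) := by
    push_cast
    rw [← hK, nsmul_eq_mul, Nat.cast_sub hq.one_le]; push_cast; ring
  rw [Int.cast_injective (α := ℂ) h2]
  positivity

theorem isConj_of_values {g u : G}
    (h : ∀ φ : G → ℂ, IsCharacter G φ → φ g = φ u) : IsConj g u := by
  by_contra hc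
  have h1 := Char.column_orthogonality g u
  rw [if_neg hc, Finset.sum_congr rfl fun ξ _ => by rw [h _ (Char.isCharacter_of_isIrr ξ.2)]] at h1
  have h2 := Char.column_orthogonality u u
  rw [if_pos (IsConj.refl u), h1] at h2
  exact Nat.card_pos.ne' (by exact_mod_cast h2.symm)

variable {p : ℕ} [Fact p.Prime]

theorem exists_num [IsSimpleGroup G] (hG : ¬ IsMulCommutative G) (P : Sylow p G)
    (hP : Nat.card (P : Subgroup G) = p)
    (hrel : (P : Subgroup G).relIndex (Subgroup.normalizer ((P : Subgroup G) : Set G)) = 2)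
    (hp5 : 5 ≤ p) (heven : 2 ∣ Nat.card G) :
    ∃ (k x z cg : ℕ) (δ A : ℤ) (val : G → ℤ), Num G p k x z cg δ A val := by
  have hp : p.Prime := Fact.out
  have hodd : ¬ 2 ∣ p := fun h => by
    have := (Nat.prime_dvd_prime_iff_eq Nat.prime_two hp).mp h; omega
  obtain ⟨D⟩ := BrauerTuan.nonempty_data (BrauerTuan.SmallCofactor.not_cyclic hG) P hP
  set Nn := Subgroup.normalizer ((P : Subgroup G) : Set G) with hNn
  have hNc : Nat.card Nn = 2 * p := by
    have h := Subgroup.card_mul_index ((P : Subgroup G).subgroupOf Nn)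
    rw [Nat.card_congr (Subgroup.subgroupOfEquivOfLe Subgroup.le_normalizer).toEquiv, hP] at h
    rw [← h, show ((P : Subgroup G).subgroupOf Nn).index = 2 from hrel, mul_comm]
  have hnc : Nat.card G = (1 + D.n * p) * (2 * p) := by
    rw [← hNc, ← D.card_sylow, Sylow.card_eq_index_normalizer P, mul_comm]
    exact (Subgroup.card_mul_index _).symm
  have hprodC : D.e * Nat.card (Subgroup.centralizer ((P : Subgroup G) : Set G)) = 2 * p := by
    have h := D.card_G
    rw [hnc, mul_comm D.e (1 + D.n * p), mul_assoc] at h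
    exact (Nat.eq_of_mul_eq_mul_left (by omega) h).symm
  haveI : IsCyclic (P : Subgroup G) := isCyclic_of_prime_card hP
  have hPC : (P : Subgroup G) ≤ Subgroup.centralizer ((P : Subgroup G) : Set G) := fun a ha =>
    Subgroup.mem_centralizer_iff.mpr fun c hc =>
      congrArg Subtype.val ((IsCyclic.commGroup (α := (P : Subgroup G))).mul_comm ⟨c, hc⟩ ⟨a, ha⟩)
  obtain ⟨w, hw⟩ : p ∣ Nat.card (Subgroup.centralizer ((P : Subgroup G) : Set G)) := by
    have := Subgroup.card_dvd_of_le hPC; rwa [hP] at this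
  have hw1 : D.e * w = 2 := by
    rw [hw] at hprodC
    exact Nat.eq_of_mul_eq_mul_left hp.pos (by linarith)
  have he : D.e = 2 := by
    have := D.two_le_e
    rcases Nat.eq_zero_or_pos w with h | h
    · rw [h, mul_zero] at hw1; omega
    · have := Nat.le_mul_of_pos_right D.e h; omega
  have hC : Subgroup.centralizer ((P : Subgroup G) : Set G) = (P : Subgroup G) := by
    refine (Subgroup.eq_of_le_of_card_ge hPC ?_).symm
    have : w = 1 := by rw [he] at hw1; omega
    rw [hw, hP, this, mul_one]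
  obtain ⟨k, hk⟩ : ∃ k, k = 2 * (1 + D.n * p) := ⟨_, rfl⟩
  have hcard : Nat.card G = p * k := by rw [hnc, hk]; ring
  have hpk : ¬ p ∣ k := fun h => by
    rcases hp.dvd_mul.mp (hk ▸ h) with h | h
    · have := Nat.le_of_dvd two_pos h; omega
    · exact hp.not_dvd_one ((Nat.dvd_add_left (dvd_mul_left p D.n)).mp h)
  have ht : D.t = (p - 1) / 2 := by have := D.het; rw [he] at this; omega
  have ht2 : 2 ≤ D.t := by omega
  obtain ⟨v, hv, hv1⟩ : ∃ v, v ∈ (P : Subgroup G) ∧ v ≠ 1 := by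
    rcases (P : Subgroup G).bot_or_exists_ne_one with h | h
    · rw [h, Subgroup.card_bot] at hP
      exact absurd hP hp.one_lt.ne
    · exact h
  have hone : ¬ p ∣ orderOf (1 : G) := orderOf_one (G := G) ▸ hp.not_dvd_one
  have hT : Blocks.trivIrr G ∈ D.X := by
    rcases Finset.mem_union.mp D.triv with h | h
    · exact h
    exfalso
    obtain ⟨ψ', hψ', hne⟩ := Finset.exists_mem_ne (show 1 < D.Y.card by rw [D.card_Y]; omega) (Blocks.trivIrr G)
    have h1 := D.degY_eq ψ' hψ' _ h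
    rw [BrauerReynolds.degree_triv] at h1
    exact (BrauerReynolds.one_lt_degree_of_simple hG hne).ne' h1
  obtain ⟨χ, hχ⟩ := Finset.card_eq_one.mp (show (D.X.erase (Blocks.trivIrr G)).card = 1 by
    rw [Finset.card_erase_of_mem hT, D.card_X, he])
  have hχmem : χ ∈ D.X.erase (Blocks.trivIrr G) := hχ ▸ Finset.mem_singleton_self χ
  obtain ⟨hne, hχX⟩ := Finset.mem_erase.mp hχmem
  obtain ⟨ψ₀, hψ₀⟩ : D.Y.Nonempty := Finset.card_pos.mp (by rw [D.card_Y]; omega)
  have hvX : ∀ w ∈ (P : Subgroup G), w ≠ 1 → ∀ ξ ∈ D.X, (ξ : G → ℂ) w = D.δ ξ := fun w hw hw1 ξ hξ => by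
    have h := D.valX ξ hξ w hw hw1 1 (one_mem _) hone
    rwa [mul_one] at h
  have hδT : (D.δ (Blocks.trivIrr G) : ℂ) = 1 := by
    rw [← hvX v hv hv1 _ hT]; simp [Blocks.trivIrr]
  set x := charDegree (χ : G → ℂ) with hx
  set z := charDegree (ψ₀ : G → ℂ) with hz
  have hz0 : 0 < z := (Blocks.irr_degree_eq ψ₀).2
  have hx2 : 2 ≤ x := BrauerReynolds.one_lt_degree_of_simple hG hne
  obtain ⟨δ, hδdef⟩ : ∃ δ, δ = D.δ χ := ⟨_, rfl⟩
  have hδ : δ = 1 ∨ δ = -1 := hδdef ▸ D.hδ χ hχX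
  have hrelv : ∀ y, ¬ p ∣ orderOf y → ∀ ψ ∈ D.Y,
      (D.ε : ℂ) * (ψ : G → ℂ) y = 1 + (δ : ℂ) * (χ : G → ℂ) y := by
    intro y hy ψ hψ
    rw [D.rel ψ hψ y hy, ← Finset.add_sum_erase _ _ hT, hχ, Finset.sum_singleton, hδT, hδdef]
    simp [Blocks.trivIrr]
  have hzrel : D.ε * (z : ℤ) = 1 + δ * (x : ℤ) := by
    have h := hrelv 1 hone ψ₀ hψ₀
    rw [BrauerReynolds.value_one, BrauerReynolds.value_one] at h
    exact_mod_cast h
  have hεδ : D.ε = δ := by
    rcases D.hε with e | e <;> rcases hδ with e' | e' <;> rw [e, e'] at hzrel ⊢ <;> omega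
  have hzdef : (z : ℤ) = x + δ := by
    rw [hεδ] at hzrel; rcases hδ with e | e <;> rw [e] at hzrel ⊢ <;> omega
  have hδδ : (δ : ℂ) * δ = 1 := by rcases hδ with e | e <;> simp [e]
  have hψv : ∀ y, ¬ p ∣ orderOf y → ∀ ψ ∈ D.Y, (ψ : G → ℂ) y = (χ : G → ℂ) y + (δ : ℂ) := by
    intro y hy ψ hψ
    have h := hrelv y hy ψ hψ
    rw [hεδ] at h
    linear_combination (δ : ℂ) * h + ((χ : G → ℂ) y - (ψ : G → ℂ) y) * hδδ
  have hmodp : (p : ℤ) ∣ (x : ℤ) - δ := by
    have h := (D.degX χ hχX).symm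
    rw [← hx, ← hδdef] at h
    exact Int.modEq_iff_dvd.mp h
  have huniq : ∀ ξ : IrrCharacter G, charDegree (ξ : G → ℂ) = x → ξ = χ := by
    intro ξ hξ
    by_cases hX : ξ ∈ D.X
    · by_cases hξT : ξ = Blocks.trivIrr G
      · rw [hξT, BrauerReynolds.degree_triv] at hξ; omega
      · have : ξ ∈ D.X.erase (Blocks.trivIrr G) := Finset.mem_erase.mpr ⟨hξT, hX⟩
        rwa [hχ, Finset.mem_singleton] at this
    · exfalso
      by_cases hY : ξ ∈ D.Y
      · rw [D.degY_eq ξ hY ψ₀ hψ₀, ← hz] at hξ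
        rcases hδ with e | e <;> rw [e] at hzdef <;> omega
      · have hd := BrauerTuan.dvd_degree_of_vanish (χ := ξ) (P : Subgroup G) hP
          fun w hw hw1 => D.out hC ξ hX hY w hw hw1
        rw [hξ] at hd
        have hd' : (p : ℤ) ∣ δ := by
          have := dvd_sub (Int.natCast_dvd_natCast.mpr hd) hmodp
          rwa [sub_sub_cancel] at this
        have : (p : ℤ) ∣ 1 := by rcases hδ with e | e <;> rw [e] at hd' <;> simpa using hd'
        exact hp.not_dvd_one (by exact_mod_cast this)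
  choose val hval using BrauerTuan.exists_int_value_of_unique (χ := χ) huniq
  have hψval : ∀ y, ¬ p ∣ orderOf y → ∀ ψ ∈ D.Y, (ψ : G → ℂ) y = ((val y + δ : ℤ) : ℂ) := by
    intro y hy ψ hψ
    rw [hψv y hy ψ hψ, hval]; push_cast; ring
  have hχc := Char.isCharacter_of_isIrr χ.2
  have hval1 : val 1 = x := by
    have h := hval 1
    rw [BrauerReynolds.value_one, ← hx] at h
    exact_mod_cast h.symm
  have hregord : ∀ {y : G}, y ∈ reg G p → ¬ p ∣ cord y := by
    intro y hy hd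
    obtain ⟨hy1, hyp⟩ := mem_reg.mp hy
    obtain ⟨⟨w, hwC⟩, hwo⟩ := exists_prime_orderOf_dvd_card' p hd
    rw [Subgroup.orderOf_mk] at hwo
    have hcomm : Commute w y := Subgroup.mem_centralizer_singleton_iff.mp hwC
    obtain ⟨Q, hQ⟩ := (IsPGroup.of_card (G := Subgroup.zpowers w) (n := 1)
      (by rw [Nat.card_zpowers, hwo, pow_one])).exists_le_sylow
    obtain ⟨g, rfl⟩ := MulAction.exists_smul_eq G P Q
    have hwg : g⁻¹ * w * g ∈ (P : Subgroup G) := by
      have h := hQ (Subgroup.mem_zpowers w)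
      rw [Sylow.coe_subgroup_smul, Subgroup.mem_pointwise_smul_iff_inv_smul_mem] at h
      simpa using h
    have hzp : Subgroup.zpowers (g⁻¹ * w * g) = (P : Subgroup G) := by
      refine Subgroup.eq_of_le_of_card_ge (Subgroup.zpowers_le.mpr hwg) (le_of_eq ?_)
      rw [hP, Nat.card_zpowers]
      have h := (SemiconjBy.orderOf_eq g (x := g⁻¹ * w * g) (y := w) (by simp [SemiconjBy, mul_assoc]))
      rw [h, hwo]
    have hyC : g⁻¹ * y * g ∈ Subgroup.centralizer ((P : Subgroup G) : Set G) := by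
      refine Subgroup.mem_centralizer_iff.mpr fun q hq => ?_
      rw [← hzp] at hq
      obtain ⟨i, rfl⟩ := Subgroup.mem_zpowers_iff.mp hq
      have : Commute (g⁻¹ * w * g) (g⁻¹ * y * g) := by
        show _ = _
        simp only [mul_assoc, mul_inv_cancel_left]
        rw [← mul_assoc w y g, hcomm.eq, mul_assoc]
      exact (this.zpow_left i).eq
    rw [hC] at hyC
    have h := orderOf_dvd_natCard (⟨_, hyC⟩ : (P : Subgroup G))
    rw [hP, Subgroup.orderOf_mk,
      SemiconjBy.orderOf_eq g (x := g⁻¹ * y * g) (y := y) (by simp [SemiconjBy, mul_assoc])] at h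
    rcases (Nat.dvd_prime hp).mp h with h | h
    · exact hy1 (orderOf_eq_one_iff.mp h)
    · exact hyp (h ▸ dvd_rfl)
  have hcdvd : ∀ y ∈ reg G p, cord y ∣ k := fun y hy =>
    ((hp.coprime_iff_not_dvd.mpr (hregord hy)).symm).dvd_of_dvd_mul_left
      (hcard ▸ Subgroup.card_subgroup_dvd_card _)
  have hbound : ∀ y ∈ reg G p, |val y| < (x : ℤ) := by
    intro y hy
    obtain ⟨m, ρ, e⟩ := χ.2.imp fun m h => h.imp fun ρ h => h.2
    have h := Char.norm_character_le ρ y
    have hm : (Module.finrank ℂ (Fin m → ℂ) : ℂ) = (x : ℂ) := by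
      rw [hx, ← BrauerReynolds.value_one χ, ← e, Representation.char_one]
    rw [e, hval, Complex.norm_intCast, Nat.cast_inj.mp hm] at h
    have h' : |val y| ≤ (x : ℤ) := by exact_mod_cast h
    refine lt_of_le_of_ne h' fun e' => (mem_reg.mp hy).1 (BrauerTuan.SmallCofactor.eq_one_of_norm hG hne ?_)
    rw [hval, Complex.norm_intCast, ← hx]
    exact_mod_cast e'
  -- the class multiplication count
  have hpairs : ∀ y ∈ reg G p, ∃ N : ℕ,
      Nat.card {pr : G × G // IsConj y pr.1 ∧ IsConj y pr.2 ∧ pr.1 * pr.2 = v} = p * N ∧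
      (N : ℤ) * (cord y : ℤ) ^ 2 * (x * z) = (k : ℤ) * ((x : ℤ) - val y) ^ 2 := by
    intro y hy
    obtain ⟨hy1, hyp⟩ := mem_reg.mp hy
    set c := cord y with hc
    set S : ℂ := 1 + (δ : ℂ) * (val y : ℂ) ^ 2 / x - (δ : ℂ) * ((val y : ℂ) + δ) ^ 2 / z with hS
    have hsum : ∑ ξ : IrrCharacter G,
        (ξ : G → ℂ) y * (ξ : G → ℂ) y * conj ((ξ : G → ℂ) v) / (ξ : G → ℂ) 1 = S := by
      rw [← Finset.sum_subset (Finset.subset_univ (D.X ∪ D.Y)) fun ξ _ hξ => by
        rw [D.out hC ξ (fun h => hξ (Finset.mem_union_left _ h)) (fun h => hξ (Finset.mem_union_right _ h)) v hv hv1,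
          map_zero, mul_zero, zero_div],
        Finset.sum_union D.disj, ← Finset.add_sum_erase _ _ hT, hχ, Finset.sum_singleton,
        Finset.sum_congr (s₁ := D.Y) rfl (g := fun ψ : IrrCharacter G =>
          (((val y : ℂ) + δ) ^ 2 / (z : ℂ)) * conj ((ψ : G → ℂ) v)) (fun ψ hψ => by
          rw [hψv y hyp ψ hψ, hval, BrauerReynolds.value_one, D.degY_eq ψ hψ ψ₀ hψ₀, ← hz]
          ring),
        ← Finset.mul_sum, ← map_sum, D.sumY v hv hv1, hεδ, hvX v hv hv1 χ hχX, hS, hval, ← hδdef]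
      simp only [BrauerReynolds.value_one, BrauerReynolds.degree_triv, ← hx]
      simp [Blocks.trivIrr]
      ring
    have hxz : S * ((x : ℂ) * z) = ((x : ℂ) - val y) ^ 2 := by
      have hzC : (z : ℂ) = x + δ := by exact_mod_cast hzdef
      have e1 : S * ((x : ℂ) * z) = (x : ℂ) * z + (δ : ℂ) * (val y : ℂ) ^ 2 * z -
          (δ : ℂ) * ((val y : ℂ) + δ) ^ 2 * x := by
        have : (x : ℂ) ≠ 0 := Nat.cast_ne_zero.mpr (by omega)
        have : (z : ℂ) ≠ 0 := Nat.cast_ne_zero.mpr hz0.ne'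
        rw [hS]; field_simp
      rw [e1, hzC]
      linear_combination (-2 * (x : ℂ) * (val y : ℂ) + (val y : ℂ) ^ 2 - (δ : ℂ) * x) * hδδ
    have hnum := Char.class_mult y y v
    rw [hsum] at hnum
    have hmul : (c : ℂ) * (Subgroup.centralizer ({y} : Set G)).index = (Nat.card G : ℂ) := by
      exact_mod_cast (Subgroup.centralizer ({y} : Set G)).card_mul_index
    set M := Nat.card {pr : G × G // IsConj y pr.1 ∧ IsConj y pr.2 ∧ pr.1 * pr.2 = v}
    have hM : ((M * (c * c) * (x * z) : ℕ) : ℤ) = (p : ℤ) * k * ((x : ℤ) - val y) ^ 2 := by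
      have hG0 : (Nat.card G : ℂ) ≠ 0 := Nat.cast_ne_zero.mpr Nat.card_pos.ne'
      have h1 : (M : ℂ) * (c * c) = (Nat.card G : ℂ) * S := by
        calc (M : ℂ) * (c * c) = ((c : ℂ) * (Subgroup.centralizer ({y} : Set G)).index) *
              ((c : ℂ) * (Subgroup.centralizer ({y} : Set G)).index) / (Nat.card G : ℂ) * S := by
              rw [hnum]; ring
          _ = (Nat.card G : ℂ) * S := by rw [hmul, mul_div_assoc, div_self hG0, mul_one]
      have h2 : (((M * (c * c) * (x * z) : ℕ) : ℤ) : ℂ) =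
          (((p : ℤ) * k * ((x : ℤ) - val y) ^ 2 : ℤ) : ℂ) := by
        push_cast
        rw [h1, mul_assoc, hxz, hcard]; push_cast; ring
      exact_mod_cast h2
    have hpM : p ∣ M := by
      have h : p ∣ M * (c * c) * (x * z) := by
        refine Int.natCast_dvd_natCast.mp ⟨(k : ℤ) * ((x : ℤ) - val y) ^ 2, ?_⟩
        rw [hM]; ring
      have hxk : x ∣ k := hk ▸ he ▸ D.dvdX χ hχX
      have hzk : z ∣ k := hk ▸ he ▸ D.dvdY ψ₀ hψ₀
      rcases hp.dvd_mul.mp h with h | h
      · exact (hp.dvd_mul.mp h).resolve_right fun h => (hp.dvd_mul.mp h).elim (hregord hy) (hregord hy)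
      · exact ((hp.dvd_mul.mp h).elim (fun h => hpk (h.trans hxk)) fun h => hpk (h.trans hzk)).elim
    obtain ⟨N, hN⟩ := hpM
    refine ⟨N, hN, ?_⟩
    rw [hN] at hM
    push_cast at hM
    have hp0 : (p : ℤ) ≠ 0 := by exact_mod_cast hp.ne_zero
    exact mul_left_cancel₀ hp0 (by linear_combination hM)
  have hregof : ∀ g : G, orderOf g = 2 → g ∈ reg G p := fun g hg => mem_reg.mpr
    ⟨fun e => by rw [e, orderOf_one] at hg; omega,
      fun h => by have := Nat.le_of_dvd two_pos (hg ▸ h); omega⟩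
  have hinvol : ∀ g : G, orderOf g = 2 → (cord g : ℤ) ^ 2 * (x * z) = (k : ℤ) * ((x : ℤ) - val g) ^ 2 ∧
      (p : ℤ) * |val g| ≤ (x : ℤ) + ((p : ℤ) - 1) * δ ∧
      ∃ u : G, u * u = 1 ∧ u ≠ 1 ∧ u ∈ Nn ∧ IsConj g u := by
    intro g hg
    have hg1 : g ≠ 1 := (mem_reg.mp (hregof g hg)).1
    have hg2 : g * g = 1 := by rw [← pow_two, ← hg, pow_orderOf_eq_one]
    obtain ⟨N, hN, hNeq⟩ := hpairs g (hregof g hg)
    have hne' : Nonempty {pr : G × G // IsConj g pr.1 ∧ IsConj g pr.2 ∧ pr.1 * pr.2 = v} := by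
      by_contra h
      rw [not_nonempty_iff] at h
      rw [Nat.card_of_isEmpty] at hN
      have hN0 : N = 0 := (Nat.mul_eq_zero.mp hN.symm).resolve_left hp.ne_zero
      rw [hN0, Nat.cast_zero, zero_mul, zero_mul] at hNeq
      rcases mul_eq_zero.mp hNeq.symm with h' | h'
      · exact hpk (by simp [show k = 0 by exact_mod_cast h'])
      · have := (pow_eq_zero_iff two_ne_zero).mp h'
        have := abs_lt.mp (hbound g (hregof g hg))
        omega
    obtain ⟨hnp, u, hu2, hNu, hclass⟩ := BrauerTuan.pairs_of_nonempty hP hC hodd hg2 hv hv1 hne'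
    have hN1 : N = 1 := Nat.eq_of_mul_eq_mul_left hp.pos (by rw [← hN, hnp, mul_one])
    rw [hN1, Nat.cast_one, one_mul] at hNeq
    have hconj := isConj_of_values fun φ hφ => (hclass φ hφ).1
    refine ⟨hNeq, ?_, u, hu2, fun e => hg1 ?_, hNu, hconj⟩
    · obtain ⟨K', hK'⟩ := hmodp
      have hKn : 0 ≤ (x : ℤ) + ((p : ℤ) - 1) * δ := by
        rcases hδ with e | e <;> rw [e]
        · omega
        · rw [e] at hK'
          have : 0 < K' := by
            by_contra hle
            have := mul_nonpos_of_nonneg_of_nonpos (show (0 : ℤ) ≤ p by positivity) (not_lt.mp hle)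
            omega
          have := mul_le_mul_of_nonneg_left (show (1 : ℤ) ≤ K' by omega) (show (0 : ℤ) ≤ p by positivity)
          omega
      obtain ⟨K, hK⟩ : ∃ K : ℕ, (K : ℤ) = K' + δ := by
        refine ⟨(K' + δ).toNat, Int.toNat_of_nonneg ?_⟩
        have h1 : 0 ≤ (p : ℤ) * (K' + δ) := by linarith
        exact (mul_nonneg_iff_of_pos_left (by exact_mod_cast hp.pos)).mp h1
      have hKeq : (p : ℤ) * K = x + ((p : ℤ) - 1) * δ := by rw [hK]; linear_combination -hK'
      obtain ⟨a, ha, hab⟩ := BrauerTuan.exists_fixed_trace hχc (P : Subgroup G) hP hu2 hNu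
        (hclass _ hχc).2 (K := K) (by
        rw [← Finset.add_sum_erase _ _ (Finset.mem_univ (1 : (P : Subgroup G))),
          Finset.sum_congr rfl (g := fun _ => (δ : ℂ)) (fun (w : (P : Subgroup G)) hw =>
            (hvX w w.2 (fun e => Finset.ne_of_mem_erase hw (Subtype.ext e)) χ hχX).trans (by rw [hδdef])),
          Finset.sum_const, Finset.card_erase_of_mem (Finset.mem_univ _), Finset.card_univ,
          ← Nat.card_eq_fintype_card, hP, Subgroup.coe_one, BrauerReynolds.value_one, ← hx]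
        push_cast [Nat.cast_sub hp.one_le, nsmul_eq_mul]
        exact_mod_cast hKeq.symm)
      rw [← (hclass _ hχc).1, hval] at ha
      have ha' : val g = a := by exact_mod_cast ha
      rw [ha', ← hKeq]
      exact mul_le_mul_of_nonneg_left hab (by positivity)
    · rw [e] at hconj
      exact (isConj_one_left).mp hconj
  have hNconj : ∀ u u' : G, u * u = 1 → u ≠ 1 → u ∈ Nn → u' * u' = 1 → u' ≠ 1 → u' ∈ Nn → IsConj u u' := by
    intro u u' h1 h2 h3 h1' h2' h3'
    haveI : Fact (Nat.Prime 2) := ⟨Nat.prime_two⟩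
    have hsyl : ∀ a : Nn, a * a = 1 → a ≠ 1 → ∃ S : Sylow 2 Nn, (S : Subgroup Nn) = Subgroup.zpowers a := by
      intro a ha ha1
      have ho : orderOf a = 2 := orderOf_eq_prime (by rw [pow_two, ha]) ha1
      refine ⟨Sylow.ofCard (Subgroup.zpowers a) ?_, rfl⟩
      rw [Nat.card_zpowers, ho, hNc, Nat.factorization_mul two_ne_zero hp.ne_zero, Finsupp.add_apply,
        Nat.prime_two.factorization_self, Nat.factorization_eq_zero_of_not_dvd hodd, pow_one]
    obtain ⟨S, hS⟩ := hsyl ⟨u, h3⟩ (Subtype.ext h1) (fun e => h2 (congrArg Subtype.val e))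
    obtain ⟨S', hS'⟩ := hsyl ⟨u', h3'⟩ (Subtype.ext h1') (fun e => h2' (congrArg Subtype.val e))
    obtain ⟨g, hg⟩ := MulAction.exists_smul_eq Nn S S'
    have hm : g * ⟨u, h3⟩ * g⁻¹ ∈ (S' : Subgroup Nn) := by
      rw [← hg, Sylow.coe_subgroup_smul]
      exact Subgroup.smul_mem_pointwise_smul _ (MulAut.conj g) _ (hS ▸ Subgroup.mem_zpowers _)
    rw [hS'] at hm
    obtain ⟨i, hi⟩ := Subgroup.mem_zpowers_iff.mp hm
    have hi' : (u' : G) ^ i = (g : G) * u * (g : G)⁻¹ := by simpa using congrArg Subtype.val hi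
    rcases Int.even_or_odd i with ⟨j, rfl⟩ | ⟨j, rfl⟩
    · rw [zpow_add, ← (Commute.refl u').mul_zpow, h1', one_zpow, eq_comm, conj_eq_one_iff] at hi'
      exact absurd hi' h2
    · rw [zpow_add, two_mul, zpow_add, ← (Commute.refl u').mul_zpow, h1', one_zpow, one_mul, zpow_one] at hi'
      exact isConj_iff.mpr ⟨g, hi'.symm⟩
  obtain ⟨a, ha1, ha⟩ : ∃ a, 1 ≤ a ∧ 2 ^ a ∣ Nat.card G ∧ ∀ b, 2 ^ b ∣ Nat.card G → b ≤ a :=
    ⟨(Nat.card G).factorization 2,
      (Nat.prime_two.dvd_iff_one_le_factorization Nat.card_pos.ne').mp heven,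
      Nat.ordProj_dvd _ _, fun b hb => (Nat.prime_two.pow_dvd_iff_le_factorization Nat.card_pos.ne').mp hb⟩
  obtain ⟨g₀, hg2, hg1, hgC, -⟩ := BrauerTuan.exists_central_involution ha1 ha.1
  have hg0 : orderOf g₀ = 2 := orderOf_eq_prime (by rw [pow_two, hg2]) hg1
  have hsame : ∀ g : G, orderOf g = 2 → cord g = cord g₀ ∧ val g = val g₀ := by
    intro g hg
    obtain ⟨-, -, u, u1, u2, u3, u4⟩ := hinvol g hg
    obtain ⟨-, -, w, w1, w2, w3, w4⟩ := hinvol g₀ hg0
    have hc : IsConj g g₀ := u4.trans ((hNconj u w u1 u2 u3 w1 w2 w3).trans w4.symm)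
    obtain ⟨c, hc'⟩ := isConj_iff.mp hc
    refine ⟨?_, ?_⟩
    · have h1 := (Subgroup.centralizer ({g} : Set G)).card_mul_index
      have h2 := (Subgroup.centralizer ({g₀} : Set G)).card_mul_index
      rw [← Char.card_isConj_eq_index] at h1 h2
      rw [show (fun a => IsConj a g) = fun a => IsConj a g₀ from
        funext fun a => propext ⟨fun h => h.trans hc, fun h => h.trans hc.symm⟩] at h1
      exact Nat.eq_of_mul_eq_mul_right (Nat.pos_of_ne_zero fun h0 => by
        rw [h0, mul_zero] at h2; exact Nat.card_pos.ne' h2.symm) (h1.trans h2.symm)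
    · have h := Char.isClassFunction_of_isCharacter hχc g c
      rw [hc', hval, hval] at h
      exact_mod_cast h.symm
  obtain ⟨hgeq, hgfix, -⟩ := hinvol g₀ hg0
  obtain ⟨j, hj⟩ := BrauerTuan.involution_value_mod_four hG hχc hg2 (BrauerReynolds.value_one χ)
  rw [hval, ← hx] at hj
  have hj' : val g₀ = (x : ℤ) - 4 * j := by exact_mod_cast hj
  have hne' : val g₀ ≠ (x : ℤ) := fun e => by
    have := abs_lt.mp (hbound g₀ (hregof g₀ hg0)); omega
  have hdivB : ∀ y ∈ reg G p, (cord y : ℤ) * ((x : ℤ) - val g₀) ∣ (cord g₀ : ℤ) * ((x : ℤ) - val y) := by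
    intro y hy
    obtain ⟨N, -, hN⟩ := hpairs y hy
    refine (Int.pow_dvd_pow_iff two_ne_zero).mp ⟨N, ?_⟩
    have hxz0 : ((x : ℤ) * z) ≠ 0 := by positivity
    exact mul_right_cancel₀ hxz0 (by
      linear_combination ((x : ℤ) - val y) ^ 2 * hgeq - ((x : ℤ) - val g₀) ^ 2 * hN)
  have hcolumn : ∀ y ∈ reg G p,
      1 + val y ^ 2 + ((p - 1) / 2 : ℕ) * (1 + δ * val y) ^ 2 ≤ (cord y : ℤ) := by
    intro y hy
    have h := M12Order.column_bound_one (D.X ∪ D.Y) y
      (fun ξ => if ξ = Blocks.trivIrr G then 1 else if ξ = χ then val y else val y + δ) fun ξ hξ => by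
        by_cases h1 : ξ = Blocks.trivIrr G
        · simp [h1, Blocks.trivIrr]
        by_cases h2 : ξ = χ
        · simp [h1, h2, hne, hval]
        rw [if_neg h1, if_neg h2]
        rcases Finset.mem_union.mp hξ with h | h
        · exfalso
          have : ξ ∈ D.X.erase (Blocks.trivIrr G) := Finset.mem_erase.mpr ⟨h1, h⟩
          rw [hχ, Finset.mem_singleton] at this
          exact h2 this
        · exact hψval y (mem_reg.mp hy).2 ξ h
    rw [Finset.sum_union D.disj, ← Finset.add_sum_erase _ _ hT, hχ, Finset.sum_singleton] at h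
    rw [Finset.sum_congr (s₁ := D.Y) rfl (g := fun _ => (val y + δ) ^ 2) fun ψ hψ => by
      rw [if_neg (show ψ ≠ Blocks.trivIrr G from fun e => Finset.disjoint_left.mp D.disj hT (e ▸ hψ)),
        if_neg (show ψ ≠ χ from fun e => Finset.disjoint_left.mp D.disj hχX (e ▸ hψ))], Finset.sum_const, D.card_Y, ht,
      if_pos rfl, if_neg hne, if_pos rfl, nsmul_eq_mul] at h
    have hsq : (1 + δ * val y) ^ 2 = (val y + δ) ^ 2 := by rcases hδ with e | e <;> rw [e] <;> ring
    rw [hsq]; simpa [cord] using h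
  -- the singular elements
  have hsing : ∀ y : G, p ∣ orderOf y → orderOf y = p ∧ val y = δ := by
    intro y hy
    have ho : orderOf (y ^ (orderOf y / p)) = p := by
      rw [orderOf_pow_of_dvd (Nat.div_pos (Nat.le_of_dvd (orderOf_pos y) hy) hp.pos).ne'
        (Nat.div_dvd_of_dvd hy), Nat.div_div_self hy (orderOf_pos y).ne']
    obtain ⟨Q, hQ⟩ := (IsPGroup.of_card (G := Subgroup.zpowers (y ^ (orderOf y / p))) (n := 1)
      (by rw [Nat.card_zpowers, ho, pow_one])).exists_le_sylow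
    obtain ⟨g, rfl⟩ := MulAction.exists_smul_eq G P Q
    have hwg : g⁻¹ * y ^ (orderOf y / p) * g ∈ (P : Subgroup G) := by
      have h := hQ (Subgroup.mem_zpowers (y ^ (orderOf y / p)))
      rw [Sylow.coe_subgroup_smul, Subgroup.mem_pointwise_smul_iff_inv_smul_mem] at h
      have e : (g⁻¹ * y * g) ^ (orderOf y / p) = g⁻¹ * y ^ (orderOf y / p) * g := by
        simpa using conj_pow (i := orderOf y / p) (a := g⁻¹) (b := y)
      rw [← e]; simpa using h
    have hzp : Subgroup.zpowers (g⁻¹ * y ^ (orderOf y / p) * g) = (P : Subgroup G) := by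
      refine Subgroup.eq_of_le_of_card_ge (Subgroup.zpowers_le.mpr hwg) (le_of_eq ?_)
      rw [hP, Nat.card_zpowers,
        SemiconjBy.orderOf_eq g (x := g⁻¹ * y ^ (orderOf y / p) * g) (y := y ^ (orderOf y / p))
          (by simp [SemiconjBy, mul_assoc]), ho]
    have hyC : g⁻¹ * y * g ∈ Subgroup.centralizer ((P : Subgroup G) : Set G) := by
      refine Subgroup.mem_centralizer_iff.mpr fun q hq => ?_
      rw [← hzp] at hq
      obtain ⟨i, rfl⟩ := Subgroup.mem_zpowers_iff.mp hq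
      have : Commute (g⁻¹ * y ^ (orderOf y / p) * g) (g⁻¹ * y * g) := by
        show _ = _
        simp only [mul_assoc, mul_inv_cancel_left]
        rw [← mul_assoc _ y g, (Commute.pow_self y (orderOf y / p)).eq, mul_assoc]
      exact (this.zpow_left i).eq
    rw [hC] at hyC
    have he' : orderOf (g⁻¹ * y * g) = orderOf y :=
      SemiconjBy.orderOf_eq g (x := g⁻¹ * y * g) (y := y) (by simp [SemiconjBy, mul_assoc])
    have h := orderOf_dvd_natCard (⟨_, hyC⟩ : (P : Subgroup G))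
    rw [hP, Subgroup.orderOf_mk, he'] at h
    refine ⟨Nat.dvd_antisymm h hy, ?_⟩
    have hy1 : g⁻¹ * y * g ≠ 1 := fun e => by
      rw [e, orderOf_one] at he'; exact hp.not_dvd_one (he' ▸ hy)
    have h' := hvX _ hyC hy1 χ hχX
    have hcl := Char.isClassFunction_of_isCharacter hχc y g⁻¹
    rw [inv_inv] at hcl
    rw [hcl, hval, ← hδdef] at h'
    exact_mod_cast h'
  have hncard : Nat.card {g : G // orderOf g = p} = (p - 1) / 2 * k := by
    rw [SmallOrder.card_orderOf_eq_prime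
      (fun Q => by rw [Q.card_eq_multiplicity, ← P.card_eq_multiplicity, hP]), D.card_sylow, hk]
    have : p - 1 = 2 * ((p - 1) / 2) := by omega
    conv_lhs => rw [this]
    ring
  have hsplit : ∀ f : G → ℤ, (∀ y, p ∣ orderOf y → f y = f v) →
      ∑ y : G, f y = f 1 + ((p - 1) / 2 * k : ℕ) * f v + ∑ y ∈ reg G p, f y := by
    intro f hf
    rw [← Finset.sum_filter_add_sum_filter_not Finset.univ (fun y : G => p ∣ orderOf y) f]
    have h1 : ∑ y ∈ Finset.univ.filter (fun y : G => p ∣ orderOf y), f y = ((p - 1) / 2 * k : ℕ) * f v := by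
      rw [Finset.sum_congr rfl (g := fun _ => f v) fun y hy => hf y (Finset.mem_filter.mp hy).2,
        Finset.sum_const, nsmul_eq_mul, ← hncard, Nat.card_eq_fintype_card, Fintype.card_subtype]
      congr 2
      congr 1
      ext y
      simp only [Finset.mem_filter, Finset.mem_univ, true_and]
      exact ⟨fun h => (hsing y h).1, fun h => h ▸ dvd_rfl⟩
    have h2 : Finset.univ.filter (fun y : G => ¬ p ∣ orderOf y) = insert 1 (reg G p) := by
      ext y
      simp only [Finset.mem_filter, Finset.mem_univ, true_and, Finset.mem_insert, mem_reg]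
      refine ⟨fun h => (em (y = 1)).imp_right fun h1 => ⟨h1, h⟩, ?_⟩
      rintro (rfl | ⟨-, h⟩)
      exacts [hone, h]
    rw [h1, h2, Finset.sum_insert (by simp [mem_reg])]
    ring
  have hvs : val v = δ := by
    refine (hsing v ?_).2
    have h := orderOf_dvd_natCard (⟨v, hv⟩ : (P : Subgroup G))
    rw [hP, Subgroup.orderOf_mk] at h
    rw [((Nat.dvd_prime hp).mp h).resolve_left fun h' => hv1 (orderOf_eq_one_iff.mp h')]
  have hnorm : ∑ y : G, val y ^ 2 = (p : ℤ) * k := by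
    have h := Char.classInner_irr_self χ.2
    rw [classInner, inv_mul_eq_one₀ (Nat.cast_ne_zero.mpr Nat.card_pos.ne'), hcard] at h
    rw [Finset.sum_congr rfl (g := fun y => ((val y ^ 2 : ℤ) : ℂ)) (fun y _ => by
      rw [hval, map_intCast]; push_cast; ring), ← Int.cast_sum] at h
    exact_mod_cast h.symm
  have hmean : ∑ y : G, val y = 0 := by
    have h := Char.classInner_irr_ne χ.2 (Blocks.trivIrr G).2 fun e => hne (Subtype.ext e)
    rw [classInner, mul_eq_zero] at h
    have h' := h.resolve_left (inv_ne_zero (Nat.cast_ne_zero.mpr Nat.card_pos.ne'))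
    rw [Finset.sum_congr rfl (g := fun y => ((val y : ℤ) : ℂ)) (fun y _ => by
      rw [hval]; simp [Blocks.trivIrr]), ← Int.cast_sum] at h'
    exact_mod_cast h'
  have hS := fun y hy => (hsing y hy).2.trans hvs.symm
  have hsq : ∑ y ∈ reg G p, val y ^ 2 = (p : ℤ) * k - x * x - ((p - 1) / 2 : ℕ) * k := by
    have h := hsplit (fun y => val y ^ 2) fun y hy => by simp only [hS y hy]
    rw [hnorm] at h
    simp only [hval1, hvs] at h
    simp only [Nat.cast_mul] at h
    rcases hδ with e | e <;> rw [e] at h <;> linarith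
  refine ⟨k, x, z, cord g₀, δ, val g₀, val,
    { hp := hp, five := hp5, card := hcard, ncop := hpk, two := hx2, sign := hδ, zdef := hzdef,
      dvdx := hk ▸ he ▸ D.dvdX χ hχX, dvdz := hk ▸ he ▸ D.dvdY ψ₀ hψ₀, modp := hmodp,
      kmod := ⟨D.n, hk⟩, xbound := hcard ▸ BrauerTuan.degree_sq_lt hne, fix := hgfix,
      four := ⟨j, by rw [hj']; ring⟩, ne := hne', eqg := hgeq, cgdvd := hcdvd g₀ (hregof g₀ hg0),
      cgtwo := fun b hb => (pow_dvd_pow 2 (ha.2 b (hb.trans (hcard ▸ dvd_mul_left k p)))).trans hgC,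
      invol := hsame, cls := fun c y => by
        have h := Char.isClassFunction_of_isCharacter hχc y c
        rw [hval, hval] at h
        exact_mod_cast h
      cdvd := hcdvd, bound := hbound, divB := hdivB, column := hcolumn,
      pcongr := ?_, vanishX := ?_, vanishZ := ?_,
      multX := fun q hq hqp y hy => ⟨mult_one_nonneg hχc hq hy (BrauerReynolds.value_one χ) (hval y),
        mult_one_nonneg (Char.isCharacter_of_isIrr ψ₀.2) hq hy (BrauerReynolds.value_one ψ₀)
          (hψval y (fun h => hqp ((Nat.prime_dvd_prime_iff_eq hp hq).mp (hy ▸ h)).symm) ψ₀ hψ₀)⟩,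
      card_reg := ?_, sumsq := hsq, ident := ?_,
      norm := ⟨(P : Subgroup G), hP, hNc⟩ }⟩
  · intro q j hq _ y
    induction j generalizing y with
    | zero =>
      intro hy
      rw [pow_zero, orderOf_eq_one_iff] at hy
      rw [hy, hval1, sub_self]
      exact dvd_zero _
    | succ j ih =>
      intro hy
      have h1 := OrderBlocks.pow_congr hχc hq (hval y) (hval (y ^ q))
      have h2 := ih (y ^ q) (by
        rw [orderOf_pow_of_dvd hq.ne_zero (hy ▸ dvd_pow_self q (Nat.succ_ne_zero j)), hy, pow_succ,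
          Nat.mul_div_cancel _ hq.pos])
      simpa using dvd_add h1 h2
  · intro q n hq hqx hqn y _ hqy
    haveI := Fact.mk hq
    have h := Char.defect_zero_vanish χ.2 (p := q) (n := n) (BrauerReynolds.value_one χ)
      (hcard ▸ (hqx.trans (hk ▸ he ▸ D.dvdX χ hχX)).mul_left p) (hcard ▸ hqn) hqx hqy
    rw [hval] at h
    exact_mod_cast h
  · intro q n hq hqz hqn y hy hqy
    haveI := Fact.mk hq
    have h := Char.defect_zero_vanish ψ₀.2 (p := q) (n := n) (BrauerReynolds.value_one ψ₀)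
      (hcard ▸ (hqz.trans (hk ▸ he ▸ D.dvdY ψ₀ hψ₀)).mul_left p) (hcard ▸ hqn) hqz hqy
    rw [hψval y (mem_reg.mp hy).2 ψ₀ hψ₀, Int.cast_eq_zero] at h
    omega
  · have h := hsplit (fun _ => 1) fun y _ => rfl
    simp only [Finset.sum_const, nsmul_eq_mul, mul_one, Finset.card_univ, ← Nat.card_eq_fintype_card, hcard] at h
    simp only [Nat.cast_mul] at h
    linarith
  · have h := hsplit val hS
    rw [hmean, hval1, hvs] at h
    simp only [Nat.cast_mul] at h
    have h2 : ∑ y ∈ reg G p, val y * (val y + δ) =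
        ∑ y ∈ reg G p, val y ^ 2 + δ * ∑ y ∈ reg G p, val y := by
      rw [Finset.mul_sum, ← Finset.sum_add_distrib]
      exact Finset.sum_congr rfl fun y _ => by ring
    rw [h2, hsq, hzdef]
    have hpm : (p : ℤ) = 2 * (((p - 1) / 2 : ℕ) : ℤ) + 1 := by omega
    rcases hδ with e | e <;> rw [e] at h ⊢ <;> rw [hpm] <;> linarith

end CfsgLib.IndexTwoSmooth
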