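import Cfsg.Agent.Lib.IndexTwoSmooth.Facts
import Cfsg.Agent.Lib.IndexTwoSmooth.Cand
import Cfsg.Agent.Lib.IndexTwoSmooth.Classes

/-!
# Simple groups with a large prime of index two: the search is sound
-/

set_option autoImplicit false
set_option linter.unusedSectionVars false

namespace CfsgLib.IndexTwoSmooth

open scoped _root_.Classical

universe u

variable {G : Type u} [Group G] [Fintype G] {p k x z cg : ℕ} {δ A : ℤ} {val : G → ℤ}

/-- The primes of `k` are at most seven. -/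
def KSmooth (k : ℕ) : Prop := k ≠ 0 ∧ Smooth7 k

theorem Num.B_add_nonneg (h : Num G p k x z cg δ A val) (B : ℤ) : 0 ≤ B * (B + δ) := by
  rcases h.sign with e | e <;> rw [e]
  · rcases le_or_gt 0 B with hB | hB <;> nlinarith
  · rcases le_or_gt B 0 with hB | hB <;> nlinarith

theorem Num.k_pos (h : Num G p k x z cg δ A val) : 0 < k := by
  obtain ⟨n, hn⟩ := h.kmod; omega

/-- An element of order `q` with a centralizer of full `q`-part. -/
theorem Num.exists_central (h : Num G p k x z cg δ A val) {q a : ℕ} (hq : q.Prime) (hqp : q ≠ p) (ha : 0 < a)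
    (hd : q ^ a ∣ k) : ∃ y ∈ reg G p, orderOf y = q ∧ q ^ a ∣ cord y := by
  haveI := Fact.mk hq
  obtain ⟨Q⟩ := (inferInstance : Nonempty (Sylow q G))
  have hQ : q ^ a ∣ Nat.card (Q : Subgroup G) := by
    rw [Q.card_eq_multiplicity]
    exact pow_dvd_pow q ((hq.pow_dvd_iff_le_factorization Nat.card_pos.ne').mp (h.card ▸ hd.mul_left p))
  haveI : Nontrivial (Q : Subgroup G) := by
    rw [← Finite.one_lt_card_iff_nontrivial]
    exact lt_of_lt_of_le (Nat.one_lt_pow ha.ne' hq.one_lt) (Nat.le_of_dvd Nat.card_pos hQ)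
  haveI := Q.2.center_nontrivial
  obtain ⟨n, hn⟩ := IsPGroup.iff_card.mp (Q.2.to_subgroup (Subgroup.center (Q : Subgroup G)))
  have hn0 : n ≠ 0 := fun h0 => by
    rw [h0, pow_zero] at hn
    exact absurd hn (Finite.one_lt_card (α := Subgroup.center (Q : Subgroup G))).ne'
  obtain ⟨w, hw⟩ := exists_prime_orderOf_dvd_card' q (show q ∣ Nat.card (Subgroup.center (Q : Subgroup G)) from
    hn ▸ dvd_pow_self q hn0)
  refine ⟨((w : (Q : Subgroup G)) : G), mem_reg.mpr ⟨?_, ?_⟩, ?_, hQ.trans (Subgroup.card_dvd_of_le ?_)⟩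
  · intro e
    rw [← orderOf_eq_one_iff, Subgroup.orderOf_coe, Subgroup.orderOf_coe, hw] at e
    exact hq.one_lt.ne' e
  · rw [Subgroup.orderOf_coe, Subgroup.orderOf_coe, hw]
    exact fun e => hqp ((Nat.prime_dvd_prime_iff_eq h.hp hq).mp e).symm
  · rw [Subgroup.orderOf_coe, Subgroup.orderOf_coe, hw]
  · intro c hc
    exact Subgroup.mem_centralizer_singleton_iff.mpr
      (congrArg Subtype.val (Subgroup.mem_center_iff.mp w.2 ⟨c, hc⟩))

theorem natAbs_sub_lt (h : Num G p k x z cg δ A val) {y : G} (hy : y ∈ reg G p) :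
    0 < ((x : ℤ) - val y).natAbs ∧ ((x : ℤ) - val y).natAbs < 2 * x := by
  have := abs_lt.mp (h.bound y hy); omega

/-- The `q`-part of `k x z` divides a square below `4 x ^ 2`. -/
theorem Num.pow_dvd_sq (h : Num G p k x z cg δ A val) {q a j : ℕ} (hq : q.Prime) (hqp : q ≠ p) (ha : 0 < a)
    (hd : q ^ a ∣ k) (hnd : ¬ q ^ (a + 1) ∣ k) (hj : q ^ j ∣ x * z) :
    ∃ t, 0 < t ∧ t < 2 * x ∧ q ^ (a + j) ∣ t * t := by
  obtain ⟨y, hy, -, hc⟩ := h.exists_central hq hqp ha hd
  obtain ⟨h1, h2⟩ := natAbs_sub_lt h hy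
  refine ⟨_, h1, h2, ?_⟩
  obtain ⟨c', hc'⟩ := hc
  obtain ⟨m, hm⟩ := hd
  have hqm : ¬ q ∣ m := fun ⟨m', hm'⟩ => hnd ⟨m', by rw [hm, hm']; ring⟩
  have hdiv := pow_dvd_pow_of_dvd (Int.natAbs_dvd_natAbs.mpr (h.divB y hy)) 2
  simp only [Int.natAbs_mul, Int.natAbs_natCast, mul_pow] at hdiv
  have heq : cg ^ 2 * (x * z) = k * ((x : ℤ) - A).natAbs ^ 2 := by
    have := congrArg Int.natAbs h.eqg
    simpa [Int.natAbs_mul, Int.natAbs_pow] using this
  have hD : 0 < ((x : ℤ) - A).natAbs := by have := h.ne; omega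
  have h3 : cord y ^ 2 * (x * z) ∣ k * ((x : ℤ) - val y).natAbs ^ 2 := by
    have hcg : 0 < cg ^ 2 := by
      rcases Nat.eq_zero_or_pos cg with h0 | h0
      · have := h.cgdvd; rw [h0, zero_dvd_iff] at this
        exact absurd this h.k_pos.ne'
      · positivity
    refine Nat.dvd_of_mul_dvd_mul_left hcg ?_
    calc cg ^ 2 * (cord y ^ 2 * (x * z)) = k * (cord y ^ 2 * ((x : ℤ) - A).natAbs ^ 2) := by
          rw [mul_left_comm, heq]; ring
      _ ∣ k * (cg ^ 2 * ((x : ℤ) - val y).natAbs ^ 2) := mul_dvd_mul_left k hdiv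
      _ = cg ^ 2 * (k * ((x : ℤ) - val y).natAbs ^ 2) := by ring
  obtain ⟨w, hw⟩ := hj
  have h4 : q ^ a * q ^ (a + j) ∣ q ^ a * (m * (((x : ℤ) - val y).natAbs * ((x : ℤ) - val y).natAbs)) := by
    refine (Dvd.intro (c' ^ 2 * w) ?_ : _ ∣ cord y ^ 2 * (x * z)).trans
      (h3.trans (dvd_of_eq (by rw [hm]; ring)))
    rw [hc', hw, pow_add]; ring
  exact (Nat.Coprime.pow_left _ ((hq.coprime_iff_not_dvd).mpr hqm)).dvd_of_dvd_mul_left
    (Nat.dvd_of_mul_dvd_mul_left (pow_pos hq.pos a) h4)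

theorem Num.exp_mem (h : Num G p k x z cg δ A val) {q a : ℕ} (hq : q.Prime) (hd : q ^ a ∣ k)
    (hnd : ¬ q ^ (a + 1) ∣ k) (hlg : 2 * x ≤ q ^ (lg q (2 * x) 20 + 1)) : a ∈ exps q p x z := by
  unfold exps
  split_ifs with hqp
  · subst hqp
    rcases Nat.eq_zero_or_pos a with h0 | h0
    · simp [h0]
    · exact absurd ((dvd_pow_self q h0.ne').trans hd) h.ncop
  rcases Nat.eq_zero_or_pos a with h0 | h0
  · simp [h0]
  set L := lg q (2 * x) 20
  have key : ∀ j, q ^ j ∣ x * z → a + j < 2 * L + 1 := fun j hj => by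
    obtain ⟨t, ht0, ht, hdt⟩ := h.pow_dvd_sq hq hqp h0 hd hnd hj
    by_contra hle
    have h1 : q ^ (2 * L + 1) ∣ t * t := (pow_dvd_pow q (Nat.le_of_not_lt hle)).trans hdt
    have h2 : L + 1 ≤ t.factorization q := by
      have := (hq.pow_dvd_iff_le_factorization (by positivity)).mp h1
      rw [Nat.factorization_mul ht0.ne' ht0.ne', Finsupp.add_apply] at this
      omega
    have h3 := Nat.le_of_dvd ht0 ((hq.pow_dvd_iff_le_factorization ht0.ne').mpr h2)
    omega
  refine List.mem_cons_of_mem _ (List.mem_filter.mpr ⟨List.mem_range.mpr (by simpa using key 0 (by simp)), ?_⟩)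
  simp only [Bool.and_eq_true, decide_eq_true_eq]
  refine ⟨h0, fun hz => ?_⟩
  have := key _ (Nat.dvd_of_mod_eq_zero hz)
  have := key 0 (by simp)
  omega

theorem mem_divs {c : ℕ} (hk : k % 2 ^ 9 ≠ 0 ∧ k % 3 ^ 8 ≠ 0 ∧ k % 5 ^ 6 ≠ 0 ∧ k % 7 ^ 5 ≠ 0)
    (hs : Smooth7 k) (hk0 : k ≠ 0) (hc : c ∣ k) : c ∈ divs k := by
  obtain ⟨⟨a, b, e, d⟩, rfl⟩ := exists_exp (fun h0 => hk0 (by simpa [h0] using hc))
    fun q hq hqd => hs q hq (hqd.trans hc)
  obtain ⟨p2, p3, p5, p7⟩ := pow_dvd_num (a, b, e, d)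
  have key : ∀ {q i n : ℕ}, q ^ i ∣ k → k % q ^ n ≠ 0 → i < n := fun hi hn => by
    by_contra hle
    exact hn (Nat.mod_eq_zero_of_dvd ((pow_dvd_pow _ (Nat.le_of_not_lt hle)).trans hi))
  have ha := key (p2.trans hc) hk.1
  have hb := key (p3.trans hc) hk.2.1
  have he := key (p5.trans hc) hk.2.2.1
  have hd := key (p7.trans hc) hk.2.2.2
  simp only [divs, List.mem_filter, List.mem_flatMap, List.mem_map, List.mem_range, decide_eq_true_eq]
  exact ⟨⟨a, ha, b, hb, e, he, d, hd, rfl⟩, Nat.mod_eq_zero_of_dvd hc⟩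

theorem sum_reach {g lim R : ℕ} (h0 : R.testBit 0 = true) :
    ∀ l : List ℕ, (∀ w ∈ l, w ≤ g * lim → w % g = 0 ∧
      ((R <<< (w / g)) &&& (2 ^ (lim + 1) - 1)) ||| R = R) →
      l.sum ≤ g * lim → 0 < g → l.sum % g = 0 ∧ R.testBit (l.sum / g) = true := by
  intro l
  induction l with
  | nil => intro _ _ _; simpa using h0
  | cons w l ih =>
    intro hcl hle hg
    rw [List.sum_cons] at hle ⊢
    obtain ⟨hm, hb⟩ := ih (fun u hu => hcl u (List.mem_cons_of_mem _ hu)) (by omega) hg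
    obtain ⟨hw, hR⟩ := hcl w (List.mem_cons_self ..) (by omega)
    obtain ⟨i, hi⟩ := Nat.dvd_of_mod_eq_zero hw
    obtain ⟨j, hj⟩ := Nat.dvd_of_mod_eq_zero hm
    rw [hj, Nat.mul_div_cancel_left _ hg] at hb
    rw [hi, Nat.mul_div_cancel_left _ hg] at hR
    have hlt : i + j ≤ lim := Nat.le_of_mul_le_mul_left (by rw [mul_add]; omega) hg
    rw [hi, hj, ← mul_add, Nat.mul_div_cancel_left _ hg]
    refine ⟨Nat.mul_mod_right _ _, ?_⟩
    rw [← hR]
    simp [Nat.testBit_or, Nat.testBit_and, Nat.testBit_two_pow_sub_one, Nat.testBit_shiftLeft, hb,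
      show i + j < lim + 1 by omega]

theorem not_sumBad (h : Num G p k x z cg δ A val) (hs : Smooth7 k) {g lim R : ℕ}
    (hb : sumBad (p, k, x, z, cg, δ, A) g lim R = true) : False := by
  simp only [sumBad, Bool.and_eq_true, Bool.or_eq_true, decide_eq_true_eq, Bool.not_eq_true',
    List.all_eq_true, List.mem_range] at hb
  obtain ⟨⟨⟨⟨⟨hg, hP⟩, h0⟩, hlim⟩, hk⟩, hall⟩ := hb
  obtain ⟨l, hl, hsum⟩ := class_list h
  set l' := l.map fun o => p * (k / o.1) * (o.2 * (o.2 + δ)).toNat with hl'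
  have hsum' : ((l'.sum : ℕ) : ℤ) = (g * lim : ℕ) := by
    rw [← hP, ← hsum, hl', Nat.cast_list_sum, List.map_map]
    congr 1
    refine List.map_congr_left fun o _ => ?_
    simp [Int.toNat_of_nonneg (h.B_add_nonneg o.2)]
  have hsum'' : l'.sum = g * lim := by exact_mod_cast hsum'
  obtain ⟨-, hbit⟩ := sum_reach h0 l' (fun w hw hwle => by
    obtain ⟨⟨c, B⟩, ho, rfl⟩ := List.mem_map.mp hw
    obtain ⟨hck, hc2, hB, hdiv, hcol⟩ := hl _ ho
    simp only at hck hc2 hB hdiv hcol hwle ⊢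
    obtain ⟨hB1, hB2⟩ := abs_lt.mp hB
    have hi : ((B + x).toNat : ℤ) - x = B := by omega
    have hc := hall c (mem_divs hk hs h.k_pos.ne' hck) (B + x).toNat (by omega)
    rw [hi] at hc
    rcases hc with ((((hc | hc) | hc) | hc) | hc) | hc
    · omega
    · omega
    · refine absurd ?_ hc
      have := Int.natAbs_dvd_natAbs.mpr hdiv
      simp only [Int.natAbs_mul, Int.natAbs_natCast] at this
      exact Nat.mod_eq_zero_of_dvd this
    · omega
    · omega
    · exact hc) hsum''.le hg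
  rw [hsum'', Nat.mul_div_cancel_left _ hg, hlim] at hbit
  exact Bool.false_ne_true hbit

theorem not_weightBad [IsSimpleGroup G] (h : Num G p k x z cg δ A val) (ha : 2 ∣ k)
    (hb : weightBad (p, k, x, z, cg, δ, A) = true) : False := by
  simp only [weightBad, decide_eq_true_eq] at hb
  obtain ⟨g, hg⟩ := exists_prime_orderOf_dvd_card' (G := G) 2 (h.card ▸ ha.mul_left p)
  obtain ⟨h1, h2⟩ := h.invol g hg
  have hreg : g ∈ reg G p := mem_reg.mpr ⟨fun e => by rw [e, orderOf_one] at hg; omega, fun e => by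
    have := Nat.le_of_dvd two_pos (hg ▸ e); have := h.five; omega⟩
  have := class_weight_le h hreg
  rw [h1, h2] at this
  omega

theorem not_noFull (h : Num G p k x z cg δ A val) (hb : noFull (p, k, x, z, cg, δ, A) = true) : False := by
  simp only [noFull, List.any_eq_true, Bool.and_eq_true, decide_eq_true_eq, Bool.not_eq_true'] at hb
  obtain ⟨⟨q, a⟩, hmem, ⟨⟨hqp, hd⟩, hnd⟩, hopt⟩ := hb
  simp only at hqp hd hnd hopt
  have hqa : q.Prime ∧ 0 < a := by
    simp only [List.mem_cons, List.not_mem_nil, or_false, Prod.mk.injEq] at hmem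
    rcases hmem with h' | h' | h' | h' | h' | h' | h' | h' | h' | h' | h' | h' | h' | h' | h' | h' | h' | h' |
      h' | h' | h' | h' | h' | h' | h' | h' | h' | h' | h' | h' <;> obtain ⟨rfl, rfl⟩ := h' <;> norm_num
  obtain ⟨hq, ha⟩ := hqa
  obtain ⟨y, hy, hyo, hyc⟩ := h.exists_central hq hqp ha (Nat.dvd_of_mod_eq_zero hd)
  obtain ⟨hB1, hB2⟩ := abs_lt.mp (h.bound y hy)
  have hne : fullOpt (p, k, x, z, cg, δ, A) q a = true := by
    simp only [fullOpt, List.any_eq_true, List.mem_range, Bool.and_eq_true, Bool.or_eq_true, decide_eq_true_eq]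
    refine ⟨(val y + x).toNat, by omega, ?_⟩
    rw [show ((val y + x).toNat : ℤ) - x = val y by omega]
    set D := ((x : ℤ) - A).natAbs
    set T := cg * ((x : ℤ) - val y).natAbs with hT
    have hdvd : cord y * D ∣ T := by
      have := Int.natAbs_dvd_natAbs.mpr (h.divB y hy)
      simpa only [Int.natAbs_mul, Int.natAbs_natCast] using this
    have hD : 0 < D := by have := h.ne; omega
    have hnd' : ¬ q ^ (a + 1) ∣ p * k := fun h' =>
      hnd (Nat.mod_eq_zero_of_dvd ((Nat.Coprime.pow_left _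
        ((Nat.coprime_primes hq h.hp).mpr hqp)).dvd_of_dvd_mul_left h'))
    have hcD : cord y ∣ T / D := by
      obtain ⟨w, hw⟩ := hdvd
      exact ⟨w, by rw [hw, mul_right_comm, Nat.mul_div_cancel _ hD]⟩
    have hcg : cord y ∣ Nat.gcd (T / D) k := Nat.dvd_gcd hcD (h.cdvd y hy)
    have hgpos : 0 < Nat.gcd (T / D) k := Nat.gcd_pos_of_pos_right _ h.k_pos
    have hle := Nat.le_of_dvd hgpos hcg
    obtain ⟨hm1, hm2⟩ := h.multX q hq hqp y hyo
    refine ⟨⟨⟨⟨⟨⟨⟨⟨⟨by omega, ?_⟩, ?_⟩, ?_⟩, hm1⟩, hm2⟩, ?_⟩, ?_⟩, ?_⟩, ?_⟩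
    · exact Int.emod_eq_zero_of_dvd (h.pcongr q 1 hq hqp y (by rw [pow_one, hyo]))
    · by_cases hx : x % q ^ a = 0
      · exact Or.inr (h.vanishX q a hq (Nat.dvd_of_mod_eq_zero hx) hnd' y hy (hyo ▸ dvd_rfl))
      · exact Or.inl hx
    · by_cases hz : z % q ^ a = 0
      · exact Or.inr (h.vanishZ q a hq (Nat.dvd_of_mod_eq_zero hz) hnd' y hy (hyo ▸ dvd_rfl))
      · exact Or.inl hz
    · exact Nat.mod_eq_zero_of_dvd ((dvd_mul_left _ _).trans hdvd)
    · exact Nat.mod_eq_zero_of_dvd (hyc.trans hcD)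
    · exact (h.column y hy).trans (by exact_mod_cast hle)
    · refine le_trans ?_ (class_weight_le h hy)
      refine mul_le_mul_of_nonneg_right ?_ (h.B_add_nonneg _)
      have hc0 : 0 < cord y := Nat.card_pos
      exact_mod_cast Nat.mul_le_mul_left p (Nat.div_le_div_left hle hc0)
  rw [hopt] at hne
  exact Bool.false_ne_true hne

theorem likeCase_of_num (h : Num G p k x z cg δ A val) (hk : k = x * z)
    (hcase : if x % 2 = 0 then A = 0 ∧ cg = x else A = -δ ∧ cg = z) : LikeCase G p x z := by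
  have hz0 : 0 < z := by
    rcases h.sign with e | e <;> have := h.zdef <;> rw [e] at this <;> have := h.two <;> omega
  have hcons : z = x + 1 ∨ x = z + 1 := by
    rcases h.sign with e | e <;> have := h.zdef <;> rw [e] at this <;> omega
  have hP : (k : ℤ) - x * z = 0 := by rw [hk]; push_cast; ring
  have hB : ∀ y ∈ reg G p, val y = 0 ∨ val y = -δ := fun y hy => by
    have h1 := (Finset.sum_eq_zero_iff_of_nonneg fun w _ => h.B_add_nonneg (val w)).mp (h.ident.trans hP) y hy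
    rcases mul_eq_zero.mp h1 with e | e
    · exact Or.inl e
    · exact Or.inr (by omega)
  have hdiv0 : ∀ y ∈ reg G p, (val y = 0 → cord y ∣ x) ∧ (val y = -δ → cord y ∣ z) := by
    intro y hy
    have hd := h.divB y hy
    have hx0 : (x : ℤ) ≠ 0 := by have := h.two; omega
    have hz0' : (z : ℤ) ≠ 0 := by omega
    have hzd : (x : ℤ) - -δ = z := by rw [h.zdef]; ring
    split_ifs at hcase <;> obtain ⟨hA, hcg⟩ := hcase <;> rw [hA, hcg] at hd
    · rw [sub_zero] at hd
      refine ⟨fun e => ?_, fun e => ?_⟩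
      · rw [e, sub_zero] at hd
        exact Int.natCast_dvd_natCast.mp ((mul_dvd_mul_iff_right hx0).mp hd)
      · rw [e, hzd, mul_comm (x : ℤ) (z : ℤ)] at hd
        exact Int.natCast_dvd_natCast.mp ((mul_dvd_mul_iff_right hx0).mp hd)
    · rw [hzd] at hd
      refine ⟨fun e => ?_, fun e => ?_⟩
      · rw [e, sub_zero, mul_comm (z : ℤ) (x : ℤ)] at hd
        exact Int.natCast_dvd_natCast.mp ((mul_dvd_mul_iff_right hz0').mp hd)
      · rw [e, hzd] at hd
        exact Int.natCast_dvd_natCast.mp ((mul_dvd_mul_iff_right hz0').mp hd)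
  have hcop : Nat.gcd x z = 1 := by
    rcases hcons with rfl | rfl <;> simp
  have hxk : x ∣ k := h.dvdx
  have hself : ∀ y : G, orderOf y ∣ cord y := fun y =>
    Subgroup.orderOf_dvd_natCard _ (Subgroup.mem_centralizer_singleton_iff.mpr rfl)
  have hset : (Finset.univ.filter fun y : G => y ≠ 1 ∧ cord y ∣ x) = (reg G p).filter fun y => val y = 0 := by
    ext y
    simp only [Finset.mem_filter, Finset.mem_univ, true_and, mem_reg]
    refine ⟨fun ⟨h1, h2⟩ => ?_, fun ⟨h1, h2⟩ => ⟨h1.1, (hdiv0 y (mem_reg.mpr h1)).1 h2⟩⟩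
    have hr : y ∈ reg G p := mem_reg.mpr ⟨h1, fun hd => h.ncop ((hd.trans (hself y)).trans (h2.trans hxk))⟩
    refine ⟨mem_reg.mp hr, (hB y hr).resolve_right fun e => h1 ?_⟩
    have h3 := (hself y).trans (Nat.dvd_gcd h2 ((hdiv0 y hr).2 e))
    rw [hcop, Nat.dvd_one] at h3
    exact orderOf_eq_one_iff.mp h3
  refine ⟨h.hp, h.five, hk ▸ h.card, hcons, fun y h1 h2 => ?_, ?_, fun g hg => ?_, h.norm⟩
  · rcases hB y (mem_reg.mpr ⟨h1, h2⟩) with e | e
    · exact Or.inl ((hdiv0 y (mem_reg.mpr ⟨h1, h2⟩)).1 e)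
    · exact Or.inr ((hdiv0 y (mem_reg.mpr ⟨h1, h2⟩)).2 e)
  · rw [Nat.card_eq_fintype_card, Fintype.card_subtype]
    change (Finset.univ.filter fun y : G => y ≠ 1 ∧ cord y ∣ x).card = _
    rw [hset]
    have h1 := h.sumsq
    rw [← Finset.sum_filter_add_sum_filter_not (reg G p) (fun y => val y = 0) fun y => val y ^ 2,
      Finset.sum_eq_zero (fun y hy => by rw [(Finset.mem_filter.mp hy).2]; ring), zero_add,
      Finset.sum_congr rfl (g := fun _ => (1 : ℤ)) (fun y hy => by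
        obtain ⟨hy1, hy2⟩ := Finset.mem_filter.mp hy
        rw [(hB y hy1).resolve_left hy2]; rcases h.sign with e | e <;> rw [e] <;> ring),
      Finset.sum_const, nsmul_eq_mul, mul_one] at h1
    have h2 := Finset.card_filter_add_card_filter_not (s := reg G p) (fun y => val y = 0)
    have h3 := h.card_reg
    have h4 : 1 ≤ x * x := by have := h.two; nlinarith
    zify [h4]
    rw [← h2] at h3
    rw [Nat.cast_add] at h3
    linarith
  · have hcg := (h.invol g hg).1
    simp only [cord] at hcg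
    rw [hcg]
    by_cases he : x % 2 = 0
    · rw [if_pos he] at hcase; rw [if_pos (Nat.even_iff.mpr he)]; exact hcase.2
    · rw [if_neg he] at hcase; rw [if_neg fun e => he (Nat.even_iff.mp e)]; exact hcase.2

/-- The tuple of the group has a verdict. -/
theorem verdict_of_num (h : Num G p k x z cg δ A val) (hs : Smooth7 k) :
    verdict (p, k, x, z, cg, δ, A) = true := by
  have hx2 := h.two
  have hz0 : 0 < z := by
    rcases h.sign with e | e <;> have := h.zdef <;> rw [e] at this <;> omega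
  have hsx : Smooth7 x := fun q hq hd => hs q hq (hd.trans h.dvdx)
  have hsz : Smooth7 z := fun q hq hd => hs q hq (hd.trans h.dvdz)
  have hmem : (x, δ) ∈ xdList := by
    rcases h.sign with e | e
    · have hz : z = x + 1 := by have := h.zdef; rw [e] at this; omega
      exact List.mem_append_left _ (List.mem_map.mpr ⟨x, smooth_pairs (by omega) hsx (hz ▸ hsz), by rw [e]⟩)
    · have hz : z + 1 = x := by have := h.zdef; rw [e] at this; omega
      exact List.mem_append_right _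
        (List.mem_map.mpr ⟨z, smooth_pairs hz0 hsz (hz ▸ hsx), by rw [e, hz]⟩)
  have hzn : ((x : ℤ) + δ).toNat = z := by rw [← h.zdef]; simp
  have hc := List.all_eq_true.mp all_ok _ hmem
  simp only [checkX, hzn, Bool.and_eq_true, Bool.or_eq_true, decide_eq_true_eq, List.all_eq_true,
    List.mem_range, List.any_eq_true] at hc
  obtain ⟨hlg, hc⟩ := hc.resolve_left (by omega)
  obtain ⟨n, hn⟩ := h.kmod
  have hpx : p < x + 3 := by
    obtain ⟨c, hc'⟩ := h.modp
    have hpos : 0 < (x : ℤ) - δ := by rcases h.sign with e | e <;> rw [e] <;> omega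
    have := Int.le_of_dvd hpos h.modp
    rcases h.sign with e | e <;> rw [e] at this <;> omega
  have hc2 := hc p hpx
  have hk0 := h.k_pos.ne'
  rcases hc2 with (((hc2 | hc2) | hc2) | hc2) | hc2
  · have := h.five; omega
  · exact absurd (Int.emod_eq_zero_of_dvd h.modp) hc2
  · rcases h.hp.dvd_mul.mp (Nat.dvd_of_mod_eq_zero hc2) with e | e
    · exact absurd (e.trans h.dvdx) h.ncop
    · exact absurd (e.trans h.dvdz) h.ncop
  · obtain ⟨i, hi, hi2, hi0⟩ := hc2
    rcases (Nat.dvd_prime h.hp).mp (Nat.dvd_of_mod_eq_zero hi0) with e | e <;> omega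
  obtain ⟨⟨a, b, c, d⟩, rfl⟩ := exists_exp hk0 hs
  obtain ⟨d2, d3, d5, d7⟩ := pow_dvd_num (a, b, c, d)
  have hfac : (num (a, b, c, d)).factorization 2 = a ∧ (num (a, b, c, d)).factorization 3 = b ∧
      (num (a, b, c, d)).factorization 5 = c ∧ (num (a, b, c, d)).factorization 7 = d := by
    simp only [num]
    rw [Nat.factorization_mul (by positivity) (by positivity), Nat.factorization_mul (by positivity) (by positivity),
      Nat.factorization_mul (by positivity) (by positivity), Nat.Prime.factorization_pow Nat.prime_two,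
      Nat.Prime.factorization_pow Nat.prime_three, Nat.Prime.factorization_pow Nat.prime_five,
      Nat.Prime.factorization_pow (by norm_num : Nat.Prime 7)]
    simp
  have hex : ∀ {q e : ℕ}, q.Prime → q ∈ ([2, 3, 5, 7] : List ℕ) → q ^ e ∣ num (a, b, c, d) →
      (num (a, b, c, d)).factorization q = e → e ∈ exps q p x z := fun {q e} hq hmem' hd' hf =>
    h.exp_mem hq hd' (fun h' => by
      have := (hq.pow_dvd_iff_le_factorization hk0).mp h'; omega) (hlg q hmem')
  have hK := hc2 a (hex Nat.prime_two (by simp) d2 hfac.1) b (hex Nat.prime_three (by simp) d3 hfac.2.1)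
    c (hex Nat.prime_five (by simp) d5 hfac.2.2.1) d (hex (by norm_num) (by simp) d7 hfac.2.2.2)
  generalize num (a, b, c, d) = k at *
  simp only [checkK, Bool.or_eq_true, decide_eq_true_eq, List.all_eq_true, List.mem_range, Bool.and_eq_true,
    List.any_eq_true] at hK
  rcases hK with ((((e | e) | e) | e) | e) | hK
  · exact absurd (Nat.mod_eq_zero_of_dvd h.dvdx) e
  · exact absurd (Nat.mod_eq_zero_of_dvd h.dvdz) e
  · omega
  · refine absurd ?_ e
    rw [hn, Nat.mul_div_cancel_left _ two_pos, Nat.add_mul_mod_self_right, Nat.mod_eq_of_lt h.hp.one_lt]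
  · have := h.xbound; omega
  obtain ⟨c', hc'⟩ := h.modp
  have hK0 : (p : ℤ) ∣ (x : ℤ) + ((p : ℤ) - 1) * δ := ⟨c' + δ, by linear_combination hc'⟩
  have hKA : |A| ≤ ((((x : ℤ) + ((p : ℤ) - 1) * δ) / p).toNat : ℤ) := by
    have hp0 : (0 : ℤ) < p := by exact_mod_cast h.hp.pos
    have h1 : |A| ≤ ((x : ℤ) + ((p : ℤ) - 1) * δ) / p :=
      (Int.le_ediv_iff_mul_le hp0).mpr (by rw [mul_comm]; exact h.fix)
    exact h1.trans (Int.self_le_toNat _)
  obtain ⟨hA1, hA2⟩ := abs_le.mp hKA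
  generalize (((x : ℤ) + ((p : ℤ) - 1) * δ) / p).toNat = K at *
  have hA := hK (A + K).toNat (by omega)
  rw [show ((A + K).toNat : ℤ) - K = A by omega] at hA
  have hU : cg * cg * (x * z) = k * ((x : ℤ) - A).natAbs ^ 2 := by
    have := congrArg Int.natAbs h.eqg
    rw [← pow_two]
    simpa [Int.natAbs_mul, Int.natAbs_pow] using this
  rw [← hU, Nat.mul_div_cancel _ (by positivity)] at hA
  rcases hA with (((e | e) | e) | ⟨e1, e2⟩) | ⟨e1, e2⟩
  · exact absurd (Int.emod_eq_zero_of_dvd h.four) e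
  · exact absurd e h.ne
  · exact absurd (Nat.mul_mod_left _ _) e
  · have := Nat.mul_self_lt_mul_self_iff.mp e1
    have := Nat.mul_self_lt_mul_self_iff.mp e2
    omega
  · rw [Nat.mul_self_inj.mp e1] at e2
    rcases e2 with (e2 | e2) | e2
    · exact absurd (Nat.mod_eq_zero_of_dvd h.cgdvd) e2
    · obtain ⟨i, -, hi1, hi2⟩ := e2
      exact absurd (Nat.mod_eq_zero_of_dvd (h.cgtwo i (Nat.dvd_of_mod_eq_zero hi1))) hi2
    · exact e2

end CfsgLib.IndexTwoSmooth
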