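import Cfsg.Agent.Lib.IndexTwoSmooth.Defs
import Cfsg.Agent.Lib.LargePrimeTwo.IdentAbelian
import Cfsg.Agent.Lib.LargePrimeTwo.IdentBorel

/-!
# The cases shaped like `PSL(2, q)`

If `x` has two prime divisors there are three classes among the `x² - 1` elements whose centralisers
divide `x`, which is too many; if `x = r ^ k` the group is identified from its Sylow `r`-subgroups.
-/

set_option autoImplicit false
set_option linter.unusedSectionVars false
set_option linter.style.haveILetI false

namespace CfsgLib.IndexTwoSmooth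

open Subgroup
open CfsgLib.LargePrimeTwo

variable {G : Type*} [Group G] [Finite G] {p x z : ℕ}

/-- The elements counted by `LikeCase.count`. -/
def InX (x : ℕ) (y : G) : Prop := y ≠ 1 ∧ Nat.card (centralizer ({y} : Set G)) ∣ x

theorem inX_conj (g : G) {y : G} (hy : InX x y) : InX x (g * y * g⁻¹) := by
  refine ⟨fun e => hy.1 (by simpa using e), ?_⟩
  change Nat.card (BSW.czer (g * y * g⁻¹)) ∣ x
  rw [BSW.cent_conj, Subgroup.card_map_of_injective (MulEquiv.injective _)]
  exact hy.2

theorem LikeCase.not_p (h : LikeCase G p x z) {r : ℕ} (hr : r.Prime) (hr2 : r ≠ 2) (hrp : r ≠ p)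
    (hcop : ¬ p ∣ x * z) {y : G} (hy : r ∣ orderOf y) : ¬ p ∣ orderOf y := by
  intro hp
  haveI := Fact.mk h.prime
  obtain ⟨P, hP, hN⟩ := h.norm
  set a := y ^ (orderOf y / p) with ha
  have hao : orderOf a = p := by
    rw [ha, orderOf_pow' y (Nat.div_ne_zero_iff.mpr ⟨h.prime.ne_zero, Nat.le_of_dvd (orderOf_pos y) hp⟩),
      Nat.gcd_eq_right (Nat.div_dvd_of_dvd hp), Nat.div_div_self hp (orderOf_pos y).ne']
  set b := y ^ (orderOf y / r) with hb
  have hbo : orderOf b = r := by
    rw [hb, orderOf_pow' y (Nat.div_ne_zero_iff.mpr ⟨hr.ne_zero, Nat.le_of_dvd (orderOf_pos y) hy⟩),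
      Nat.gcd_eq_right (Nat.div_dvd_of_dvd hy), Nat.div_div_self hy (orderOf_pos y).ne']
  have hpG : (Nat.card G).factorization p = 1 := by
    rw [h.card, Nat.factorization_mul h.prime.ne_zero (fun e => hcop (by simp [e])), Finsupp.add_apply,
      h.prime.factorization_self, Nat.factorization_eq_zero_of_not_dvd hcop]
  have hcardA : Nat.card (zpowers a) = p := by rw [Nat.card_zpowers, hao]
  let SA : Sylow p G := Sylow.ofCard (zpowers a) (by rw [hcardA, hpG, pow_one])
  let SP : Sylow p G := Sylow.ofCard P (by rw [hP, hpG, pow_one])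
  have hcard : Nat.card (normalizer ((SA : Subgroup G) : Set G)) =
      Nat.card (normalizer ((SP : Subgroup G) : Set G)) := by
    have h1 := (normalizer ((SA : Subgroup G) : Set G)).card_mul_index
    rw [← (normalizer ((SP : Subgroup G) : Set G)).card_mul_index,
      show (normalizer ((SA : Subgroup G) : Set G)).index = Nat.card (Sylow p G) from
        SA.card_eq_index_normalizer.symm,
      show (normalizer ((SP : Subgroup G) : Set G)).index = Nat.card (Sylow p G) from
        SP.card_eq_index_normalizer.symm] at h1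
    exact Nat.eq_of_mul_eq_mul_right Nat.card_pos h1
  have hbN : b ∈ normalizer ((zpowers a : Subgroup G) : Set G) := by
    refine centralizer_le_normalizer (zpowers a : Set G) (mem_centralizer_iff.mpr fun c hc => ?_)
    obtain ⟨i, rfl⟩ := mem_zpowers_iff.mp hc
    exact ((Commute.refl y).pow_pow _ _).zpow_left i
  have h2 := Subgroup.orderOf_dvd_natCard _ hbN
  rw [hbo] at h2
  change r ∣ Nat.card (normalizer ((SA : Subgroup G) : Set G)) at h2
  rw [hcard] at h2
  change r ∣ Nat.card (normalizer (P : Set G)) at h2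
  rw [hN] at h2
  rcases hr.dvd_mul.mp h2 with h3 | h3
  · exact hr2 ((Nat.prime_dvd_prime_iff_eq hr Nat.prime_two).mp h3)
  · exact hrp ((Nat.prime_dvd_prime_iff_eq hr h.prime).mp h3)

/-- A prime dividing `x` but not `z` and different from `p` is the order of a counted element. -/
theorem LikeCase.exists_inX (h : LikeCase G p x z) {a : ℕ} (ha : a.Prime) (hax : a ∣ x) (hap : a ≠ p)
    (haz : ¬ a ∣ z) : ∃ y : G, InX x y ∧ orderOf y = a := by
  haveI := Fact.mk ha
  have hd : a ∣ Nat.card G := by rw [h.card]; exact dvd_mul_of_dvd_right (dvd_mul_of_dvd_left hax z) p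
  obtain ⟨y, hy⟩ := exists_prime_orderOf_dvd_card' a hd
  have hy1 : y ≠ 1 := fun e => ha.one_lt.ne (by rw [← hy, e, orderOf_one])
  refine ⟨y, ⟨hy1, ?_⟩, hy⟩
  rcases h.cent y hy1 (fun hp => hap ((Nat.prime_dvd_prime_iff_eq h.prime ha).mp (hy ▸ hp)).symm) with h1 | h1
  · exact h1
  · exfalso
    refine haz (dvd_trans ?_ h1)
    rw [← hy]
    exact Subgroup.orderOf_dvd_natCard _ (mem_centralizer_singleton_iff.mpr rfl)

/-- Two primes in `x` give three classes, too many. -/
theorem LikeCase.false_of_two_primes (h : LikeCase G p x z) {a b : ℕ} (ha : a.Prime) (hb : b.Prime)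
    (hab : a ≠ b) (hax : a ∣ x) (hbx : b ∣ x) (hap : a ≠ p) (hbp : b ≠ p) (haz : ¬ a ∣ z) (hbz : ¬ b ∣ z)
    (hsmall : x * x - 1 < 3 * (p * z)) : False := by
  classical
  haveI := Fintype.ofFinite G
  obtain ⟨ya, hya, hoa⟩ := h.exists_inX ha hax hap haz
  obtain ⟨yb, hyb, hob⟩ := h.exists_inX hb hbx hbp hbz
  -- the class of a counted element
  have hidx : ∀ y : G, InX x y → ∃ d, x = Nat.card (centralizer ({y} : Set G)) * d ∧
      Nat.card {w : G // ∃ g : G, g * y * g⁻¹ = w} = p * z * d := by
    intro y hy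
    obtain ⟨d, hd⟩ := hy.2
    refine ⟨d, hd, ?_⟩
    rw [card_class]
    have e := (centralizer ({y} : Set G)).card_mul_index
    rw [h.card] at e
    refine Nat.eq_of_mul_eq_mul_left (Nat.card_pos (α := centralizer ({y} : Set G))) ?_
    rw [e]
    generalize Nat.card (centralizer ({y} : Set G)) = c at hd
    rw [hd]; ring
  have hdisj : ∀ y y' : G, orderOf y ≠ orderOf y' → Disjoint
      (Finset.univ.filter fun w : G => ∃ g : G, g * y * g⁻¹ = w)
      (Finset.univ.filter fun w : G => ∃ g : G, g * y' * g⁻¹ = w) := by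
    intro y y' hne
    rw [Finset.disjoint_filter]
    rintro w - ⟨g, hg⟩ ⟨g', hg'⟩
    exact hne (by rw [← BSW.orderOf_conj g y, hg, ← hg', BSW.orderOf_conj])
  have hcard : ∀ y : G, Nat.card {w : G // ∃ g : G, g * y * g⁻¹ = w} =
      (Finset.univ.filter fun w : G => ∃ g : G, g * y * g⁻¹ = w).card := fun y => by
    rw [Nat.card_eq_fintype_card, Fintype.card_subtype]
  have hsub : ∀ y : G, InX x y → (Finset.univ.filter fun w : G => ∃ g : G, g * y * g⁻¹ = w) ⊆
      Finset.univ.filter fun w : G => InX x w := by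
    intro y hy w hw
    rw [Finset.mem_filter] at hw ⊢
    obtain ⟨g, hg⟩ := hw.2
    exact ⟨Finset.mem_univ _, hg ▸ inX_conj g hy⟩
  have htot : (Finset.univ.filter fun w : G => InX x w).card = x * x - 1 := by
    rw [← h.count, Nat.card_eq_fintype_card, Fintype.card_subtype]
    exact congrArg Finset.card (Finset.filter_congr fun w _ => Iff.rfl)
  obtain ⟨da, hda, hca⟩ := hidx ya hya
  obtain ⟨db, hdb, hcb⟩ := hidx yb hyb
  have hxpos : 0 < x := Nat.pos_of_ne_zero fun e => by
    rcases h.consec with h1 | h1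
    · exact haz (absurd (h.card) (by rw [e]; simp [Nat.card_pos.ne']))
    · omega
  have h2 := Finset.card_le_card (Finset.union_subset (hsub ya hya) (hsub yb hyb))
  rw [Finset.card_union_of_disjoint (hdisj ya yb (by rw [hoa, hob]; exact hab)), ← hcard, ← hcard, htot,
    hca, hcb] at h2
  have hpz : 0 < p * z := by
    have := (Nat.card_pos (α := G))
    rw [h.card] at this
    rcases Nat.eq_zero_or_pos z with e | e
    · rw [e] at this; simp at this
    · exact Nat.mul_pos h.prime.pos e
  have hd1 : da = 1 := by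
    have : 1 ≤ da := Nat.pos_of_ne_zero fun e => by rw [e] at hda; omega
    have : 1 ≤ db := Nat.pos_of_ne_zero fun e => by rw [e] at hdb; omega
    by_contra hne
    have : 2 * (p * z) ≤ p * z * da := by rw [mul_comm 2]; exact Nat.mul_le_mul_left _ (by omega)
    have : 1 * (p * z) ≤ p * z * db := by rw [mul_comm 1]; exact Nat.mul_le_mul_left _ (by omega)
    omega
  rw [hd1, mul_one] at hda
  -- an element of order `b` centralising `ya`
  haveI := Fact.mk hb
  obtain ⟨⟨w, hw⟩, hwo⟩ := exists_prime_orderOf_dvd_card' b (hda ▸ hbx)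
  rw [orderOf_mk] at hwo
  have hc : Commute ya w := (mem_centralizer_singleton_iff.mp hw).symm
  have ho := hc.orderOf_mul_eq_mul_orderOf_of_coprime
    (by rw [hoa, hwo]; exact (Nat.coprime_primes ha hb).mpr hab)
  rw [hoa, hwo] at ho
  have hne1 : ya * w ≠ 1 := fun e => by
    rw [e, orderOf_one] at ho
    exact ha.one_lt.ne' (Nat.eq_one_of_mul_eq_one_right ho.symm)
  have hX : InX x (ya * w) := by
    refine ⟨hne1, ?_⟩
    rcases h.cent _ hne1 (by
      rw [ho]; intro hp
      rcases h.prime.dvd_mul.mp hp with h3 | h3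
      · exact hap ((Nat.prime_dvd_prime_iff_eq h.prime ha).mp h3).symm
      · exact hbp ((Nat.prime_dvd_prime_iff_eq h.prime hb).mp h3).symm) with h3 | h3
    · exact h3
    · exfalso
      refine haz (dvd_trans (dvd_trans ⟨b, ho⟩ ?_) h3)
      exact Subgroup.orderOf_dvd_natCard _ (mem_centralizer_singleton_iff.mpr rfl)
  obtain ⟨dc, hdc, hcc⟩ := hidx _ hX
  have h3 := Finset.card_le_card (Finset.union_subset
    (Finset.union_subset (hsub ya hya) (hsub yb hyb)) (hsub _ hX))
  rw [Finset.card_union_of_disjoint (Finset.disjoint_union_left.mpr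
      ⟨hdisj ya _ (by rw [hoa, ho]; exact fun e => hb.one_lt.ne' (by
        have := mul_left_cancel₀ ha.ne_zero (show a * 1 = a * b by omega); omega)),
      hdisj yb _ (by rw [hob, ho]; exact fun e => ha.one_lt.ne' (by
        have := mul_right_cancel₀ hb.ne_zero (show 1 * b = a * b by omega); omega))⟩),
    Finset.card_union_of_disjoint (hdisj ya yb (by rw [hoa, hob]; exact hab)), ← hcard, ← hcard, ← hcard,
    htot, hca, hcb, hcc, hd1, mul_one] at h3
  have : 1 * (p * z) ≤ p * z * db := by
    rw [mul_comm 1]; exact Nat.mul_le_mul_left _ (Nat.pos_of_ne_zero fun e => by rw [e] at hdb; omega)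
  have : 1 * (p * z) ≤ p * z * dc := by
    rw [mul_comm 1]; exact Nat.mul_le_mul_left _ (Nat.pos_of_ne_zero fun e => by rw [e] at hdc; omega)
  omega

/-- The data at the prime power `x`. -/
theorem LikeCase.identHyp {r k s : ℕ} (h : LikeCase G p x z) (hr : r.Prime) (hr2 : r ≠ 2) (hk : 1 ≤ k)
    (hx : x = r ^ k) (hrz : ¬ r ∣ p * z) (hpxz : ¬ p ∣ x * z) (hs : x * x - 1 = s * (p * z)) :
    IdentHyp G r k (p * z) s := by
  have hrp : r ≠ p := fun e => hrz (e ▸ dvd_mul_right p z)
  have key : ∀ y : G, r ∣ orderOf y → Nat.card (centralizer ({y} : Set G)) ∣ x := by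
    intro y hy
    have hy1 : y ≠ 1 := fun e => hr.not_dvd_one (by rw [e, orderOf_one] at hy; exact hy)
    rcases h.cent y hy1 (h.not_p hr hr2 hrp hpxz hy) with h1 | h1
    · exact h1
    · exact absurd (dvd_mul_of_dvd_right ((hy.trans
        (Subgroup.orderOf_dvd_natCard _ (mem_centralizer_singleton_iff.mpr rfl))).trans h1) p) hrz
  refine ⟨hr, hr2, hk, by rw [h.card, hx]; ring, ?_, hrz, ?_, ?_⟩
  · exact Nat.pos_of_ne_zero fun e => hrz (e ▸ dvd_zero r)
  · intro y hy
    have h1 : orderOf y ∣ r ^ k :=
      hx ▸ (Subgroup.orderOf_dvd_natCard _ (mem_centralizer_singleton_iff.mpr rfl)).trans (key y hy)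
    obtain ⟨j, -, hj⟩ := (Nat.dvd_prime_pow hr).mp h1
    exact ⟨j, hj⟩
  · rw [← hs, ← h.count]
    refine Nat.card_congr (Equiv.subtypeEquivRight fun y => ⟨fun hy => ⟨hy.1, ?_⟩, fun hy => ⟨hy.1, ?_⟩⟩)
    · obtain ⟨j, -, hj⟩ := (Nat.dvd_prime_pow hr).mp (orderOf_dvd_of_pow_eq_one hy.2)
      refine key y (hj ▸ dvd_pow_self r fun e => hy.1 ?_)
      rw [← orderOf_eq_one_iff, hj, e, pow_zero]
    · exact orderOf_dvd_iff_pow_eq_one.mp
        ((Subgroup.orderOf_dvd_natCard _ (mem_centralizer_singleton_iff.mpr rfl)).trans (hx ▸ hy.2))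

theorem sylow_comm_sq {r M s : ℕ} [Fact r.Prime] (h : IdentHyp G r 2 M s) (S : Sylow r G) :
    IsMulCommutative (S : Subgroup G) :=
  IsPGroup.isMulCommutative_of_card_eq_prime_sq (h.card_sylow S)

theorem LikeCase.two_M {r k : ℕ} (h : IdentHyp G r k (p * z) 2) (hs : x * x - 1 = 2 * (p * z))
    (hx : x = r ^ k) : 2 * (p * z) + 1 = (r ^ k) ^ 2 := by
  subst hx
  have := Nat.one_le_pow k r h.prime.pos
  rw [pow_two, ← hs]
  exact Nat.sub_add_cancel (Nat.one_le_iff_ne_zero.mpr (Nat.mul_ne_zero (by omega) (by omega)))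

/-- The prime-power cases with two classes and an even torus half. -/
theorem LikeCase.isL2_even [IsSimpleGroup G] {r k : ℕ} [Fact r.Prime] (h : LikeCase G p (r ^ k) z)
    (hh : IdentHyp G r k (p * z) 2) (hs : r ^ k * r ^ k - 1 = 2 * (p * z))
    (hcomm : ∀ S : Sylow r G, IsMulCommutative (S : Subgroup G)) (h5 : 5 ≤ r ^ k) (hz : z + 1 = r ^ k)
    (he : Even ((r ^ k - 1) / 2)) : IsL2 G (r ^ k) := by
  have hr3 := hh.three_le
  refine isL2_of_hyp hh (fun y hy => hh.card_cent (by omega) hy) hcomm (LikeCase.two_M hh hs rfl) h5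
    (Or.inl ⟨fun g hg => ?_, he⟩)
  rw [h.invol g hg, if_neg (Nat.not_even_iff_odd.mpr (hh.prime.odd_of_ne_two hh.odd).pow)]
  omega

/-- **The cases shaped like `PSL(2, q)`.** -/
theorem like_case [IsSimpleGroup G] (h : LikeCase G p x z) (hl : (p, x, z) ∈ likeList) : Concl G := by
  haveI : Fact (Nat.Prime 3) := ⟨Nat.prime_three⟩
  haveI : Fact (Nat.Prime 5) := ⟨Nat.prime_five⟩
  haveI : Fact (Nat.Prime 7) := ⟨by norm_num⟩
  simp only [likeList, List.mem_cons, List.not_mem_nil, or_false, Prod.mk.injEq] at hl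
  rcases hl with ⟨rfl, rfl, rfl⟩ | ⟨rfl, rfl, rfl⟩ | ⟨rfl, rfl, rfl⟩ | ⟨rfl, rfl, rfl⟩ | ⟨rfl, rfl, rfl⟩ |
    ⟨rfl, rfl, rfl⟩ | ⟨rfl, rfl, rfl⟩ | ⟨rfl, rfl, rfl⟩ | ⟨rfl, rfl, rfl⟩ | ⟨rfl, rfl, rfl⟩ |
    ⟨rfl, rfl, rfl⟩ | ⟨rfl, rfl, rfl⟩ | ⟨rfl, rfl, rfl⟩ | ⟨rfl, rfl, rfl⟩ | ⟨rfl, rfl, rfl⟩ | ⟨rfl, rfl, rfl⟩
  · exact (h.false_of_two_primes (a := 2) (b := 5) (by norm_num) (by norm_num) (by norm_num)
      (by norm_num) (by norm_num) (by norm_num) (by norm_num) (by norm_num) (by norm_num) (by norm_num)).elim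
  · exact (h.false_of_two_primes (a := 3) (b := 7) (by norm_num) (by norm_num) (by norm_num)
      (by norm_num) (by norm_num) (by norm_num) (by norm_num) (by norm_num) (by norm_num) (by norm_num)).elim
  · exact (h.false_of_two_primes (a := 2) (b := 3) (by norm_num) (by norm_num) (by norm_num)
      (by norm_num) (by norm_num) (by norm_num) (by norm_num) (by norm_num) (by norm_num) (by norm_num)).elim
  · -- `x = 25`
    have hh := h.identHyp (r := 5) (k := 2) (s := 2) Nat.prime_five (by norm_num) (by norm_num) (by norm_num)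
      (by norm_num) (by norm_num) (by norm_num)
    have := LikeCase.isL2_even (r := 5) (k := 2) (by norm_num; exact h) hh (by norm_num)
      (sylow_comm_sq hh) (by norm_num) (by norm_num) ⟨6, by norm_num⟩
    norm_num at this
    simp only [Concl]; tauto
  · -- `x = 27`
    have hh := h.identHyp (r := 3) (k := 3) (s := 2) Nat.prime_three (by norm_num) (by norm_num) (by norm_num)
      (by norm_num) (by norm_num) (by norm_num)
    have hf : Full (G := G) 3 3 := fun y hy => hh.card_cent (by norm_num) hy
    have : IsL2 G (3 ^ 3) := isL2_of_hyp hh hf (sylow_comm hh hf (by norm_num) (by norm_num) (by norm_num))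
      (by norm_num) (by norm_num) (Or.inr fun D hD => by
        obtain ⟨P, hP, hN⟩ := h.norm
        haveI : Fact (Nat.Prime 13) := ⟨by norm_num⟩
        have hpG : (Nat.card G).factorization 13 = 1 := by
          rw [h.card, Nat.factorization_mul (by norm_num) (by norm_num), Finsupp.add_apply,
            (show Nat.Prime 13 by norm_num).factorization_self,
            Nat.factorization_eq_zero_of_not_dvd (by norm_num)]
        have hD13 : Nat.card D = 13 := by norm_num at hD; omega
        let SD : Sylow 13 G := Sylow.ofCard D (by rw [hpG, pow_one, hD13])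
        let SP : Sylow 13 G := Sylow.ofCard P (by rw [hpG, pow_one, hP])
        have h1 := (normalizer ((SD : Subgroup G) : Set G)).card_mul_index
        rw [← (normalizer ((SP : Subgroup G) : Set G)).card_mul_index,
          show (normalizer ((SD : Subgroup G) : Set G)).index = Nat.card (Sylow 13 G) from
            SD.card_eq_index_normalizer.symm,
          show (normalizer ((SP : Subgroup G) : Set G)).index = Nat.card (Sylow 13 G) from
            SP.card_eq_index_normalizer.symm] at h1
        have h2 : Nat.card (normalizer (D : Set G)) = 2 * 13 :=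
          (Nat.eq_of_mul_eq_mul_right Nat.card_pos h1).trans hN
        exact SetLike.exists_of_lt (lt_of_le_of_ne le_normalizer fun e => by rw [← e, hD13] at h2; omega))
    norm_num at this
    simp only [Concl]; tauto
  · exact (h.false_of_two_primes (a := 2) (b := 7) (by norm_num) (by norm_num) (by norm_num)
      (by norm_num) (by norm_num) (by norm_num) (by norm_num) (by norm_num) (by norm_num) (by norm_num)).elim
  · exact (h.false_of_two_primes (a := 5) (b := 7) (by norm_num) (by norm_num) (by norm_num)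
      (by norm_num) (by norm_num) (by norm_num) (by norm_num) (by norm_num) (by norm_num) (by norm_num)).elim
  · exact (h.false_of_two_primes (a := 2) (b := 3) (by norm_num) (by norm_num) (by norm_num)
      (by norm_num) (by norm_num) (by norm_num) (by norm_num) (by norm_num) (by norm_num) (by norm_num)).elim
  · exact (h.false_of_two_primes (a := 2) (b := 3) (by norm_num) (by norm_num) (by norm_num)
      (by norm_num) (by norm_num) (by norm_num) (by norm_num) (by norm_num) (by norm_num) (by norm_num)).elim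
  · -- `x = 49`: no group
    exfalso
    have hh := h.identHyp (r := 7) (k := 2) (s := 10) (by norm_num) (by norm_num) (by norm_num) (by norm_num)
      (by norm_num) (by norm_num) (by norm_num)
    have hc := sylow_comm_sq hh
    have hf : Full (G := G) 7 2 := fun y hy => hh.card_cent_of_comm
      (fun S a ha b hb => congrArg Subtype.val ((hc S).is_comm.comm ⟨a, ha⟩ ⟨b, hb⟩)) hy
    obtain ⟨S⟩ := (inferInstance : Nonempty (Sylow 7 G))
    have hn := hh.card_normalizer hf S
    have hce : Nat.card (CenterElt (S : Subgroup G)) + 1 = 49 := by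
      classical
      haveI := Fintype.ofFinite G
      haveI := Fintype.ofFinite (S : Subgroup G)
      have e : Nat.card {w : (S : Subgroup G) // w ≠ 1} = Nat.card (CenterElt (S : Subgroup G)) := by
        refine Nat.card_eq_of_bijective (fun w => ⟨(w.1 : G), fun e => w.2 (Subtype.ext e),
          hh.cent_eq hf w.1.2 (fun e => w.2 (Subtype.ext e)) fun b hb =>
            congrArg Subtype.val ((hc S).is_comm.comm ⟨b, hb⟩ w.1)⟩) ⟨?_, ?_⟩
        · intro a b hab
          exact Subtype.ext (Subtype.ext (congrArg (fun w : CenterElt (S : Subgroup G) => (w : G)) hab :))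
        · rintro ⟨w, hw1, hwS⟩
          exact ⟨⟨⟨w, (SetLike.ext_iff.mp hwS w).mp (mem_centralizer_singleton_iff.mpr rfl)⟩,
            fun e => hw1 (congrArg Subtype.val e)⟩, rfl⟩
      have h1 := Fintype.card_subtype_compl (fun w : (S : Subgroup G) => w = 1)
      rw [Fintype.card_subtype_eq] at h1
      have hS := hh.card_sylow S
      rw [Nat.card_eq_fintype_card] at hS
      rw [← e, Nat.card_eq_fintype_card, h1, hS]
      norm_num
    rw [show Nat.card (CenterElt (S : Subgroup G)) = 48 by omega] at hn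
    norm_num at hn
    omega
  · exact (h.false_of_two_primes (a := 2) (b := 5) (by norm_num) (by norm_num) (by norm_num)
      (by norm_num) (by norm_num) (by norm_num) (by norm_num) (by norm_num) (by norm_num) (by norm_num)).elim
  · -- `x = 81`
    have hh := h.identHyp (r := 3) (k := 4) (s := 2) Nat.prime_three (by norm_num) (by norm_num) (by norm_num)
      (by norm_num) (by norm_num) (by norm_num)
    have hf : Full (G := G) 3 4 := fun y hy => hh.card_cent (by norm_num) hy
    have := LikeCase.isL2_even (r := 3) (k := 4) (by norm_num; exact h) hh (by norm_num)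
      (sylow_comm hh hf le_rfl (by norm_num) fun _ => by rw [h.card]; norm_num) (by norm_num) (by norm_num)
      ⟨20, by norm_num⟩
    norm_num at this
    simp only [Concl]; tauto
  · exact (h.false_of_two_primes (a := 2) (b := 7) (by norm_num) (by norm_num) (by norm_num)
      (by norm_num) (by norm_num) (by norm_num) (by norm_num) (by norm_num) (by norm_num) (by norm_num)).elim
  · exact (h.false_of_two_primes (a := 3) (b := 5) (by norm_num) (by norm_num) (by norm_num)
      (by norm_num) (by norm_num) (by norm_num) (by norm_num) (by norm_num) (by norm_num) (by norm_num)).elim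
  · exact (h.false_of_two_primes (a := 2) (b := 3) (by norm_num) (by norm_num) (by norm_num)
      (by norm_num) (by norm_num) (by norm_num) (by norm_num) (by norm_num) (by norm_num) (by norm_num)).elim
  · -- `x = 2401`
    have hh := h.identHyp (r := 7) (k := 4) (s := 2) (by norm_num) (by norm_num) (by norm_num) (by norm_num)
      (by norm_num) (by norm_num) (by norm_num)
    have hf : Full (G := G) 7 4 := fun y hy => hh.card_cent (by norm_num) hy
    have := LikeCase.isL2_even (r := 7) (k := 4) (by norm_num; exact h) hh (by norm_num)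
      (sylow_comm hh hf le_rfl (by norm_num) fun _ => by rw [h.card]; norm_num) (by norm_num) (by norm_num)
      ⟨600, by norm_num⟩
    norm_num at this
    simp only [Concl]; tauto

end CfsgLib.IndexTwoSmooth
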