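import Cfsg.Agent.Lib.IndexTwoSmooth.Classes
import Mathlib.GroupTheory.Sylow

/-!
# Simple groups with a large prime of index two: the order 6142500

For `(p, x, z) = (13, 27, 28)` and an involution centralizer of order 700 the non-trivial elements
in the centres of the Sylow 5-subgroups, together with one class of elements of order five commuting
with an involution, weigh more than the identity allows, or their number does not fit.
-/

set_option autoImplicit false
set_option linter.unusedSectionVars false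
set_option linter.style.haveILetI false

namespace CfsgLib.IndexTwoSmooth

open CfsgLib
open scoped _root_.Classical

universe u

variable {G : Type u} [Group G] [Fintype G] {val : G → ℤ}

/-- The possible values on elements of order five with an even centralizer. -/
theorem weight_order_five {c : ℕ} {B : ℤ} (hB : |B| < 27) (hmod : (5 : ℤ) ∣ B - 27) (hev : 2 ∣ c)
    (hck : c ∣ 472500) (hdiv : (c : ℤ) * 28 ∣ 700 * (27 - B))
    (hcol : 1 + B ^ 2 + 6 * (1 + B) ^ 2 ≤ (c : ℤ)) :
    49140 ≤ ((13 * (472500 / c) : ℕ) : ℤ) * (B * (B + 1)) := by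
  obtain ⟨h1, h2⟩ := abs_lt.mp hB
  have hd : (c : ℤ) ∣ 25 * (27 - B) := by
    rw [show (700 : ℤ) * (27 - B) = 25 * (27 - B) * 28 by ring] at hdiv
    exact (mul_dvd_mul_iff_right (by norm_num)).mp hdiv
  have hle : (c : ℤ) ≤ 25 * (27 - B) := Int.le_of_dvd (by omega) hd
  obtain ⟨n, rfl⟩ : ∃ n, B = 5 * n + 2 := ⟨(B - 2) / 5, by omega⟩
  obtain ⟨hn1, hn2⟩ : -5 ≤ n ∧ n ≤ 4 := by omega
  have hc0 : 0 < c := Nat.pos_of_ne_zero fun e => by subst e; norm_num at hck
  have hq : ∀ b : ℕ, b * c ≤ 472500 → b ≤ 472500 / c := fun b => (Nat.le_div_iff_mul_le hc0).mpr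
  rw [Nat.cast_mul]
  generalize 472500 / c = q at hq ⊢
  interval_cases n <;> norm_num at hcol hle hd ⊢
  all_goals try omega
  · exact absurd (hev.trans (show c ∣ 875 by exact_mod_cast hd)) (by norm_num)
  · have := hq 630 (by omega)
    omega
  · exact absurd (hev.trans (show c ∣ 625 by exact_mod_cast hd)) (by norm_num)
  · have := hq 945 (by omega)
    omega

/-- An element whose centralizer order is a multiple of 625 has centralizer order 625 and value 2. -/
theorem cord_eq_of_dvd {c : ℕ} {B : ℤ} (hB : |B| < 27) (hdvd : 625 ∣ c) (hc0 : 0 < c)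
    (hdiv : (c : ℤ) * 28 ∣ 700 * (27 - B)) (hcol : 1 + B ^ 2 + 6 * (1 + B) ^ 2 ≤ (c : ℤ)) :
    c = 625 ∧ B = 2 := by
  obtain ⟨h1, h2⟩ := abs_lt.mp hB
  have hd : (c : ℤ) ∣ 25 * (27 - B) := by
    rw [show (700 : ℤ) * (27 - B) = 25 * (27 - B) * 28 by ring] at hdiv
    exact (mul_dvd_mul_iff_right (by norm_num)).mp hdiv
  have hle : (c : ℤ) ≤ 25 * (27 - B) := Int.le_of_dvd (by omega) hd
  obtain ⟨m, hm⟩ : (625 : ℤ) ∣ 25 * (27 - B) := (Int.natCast_dvd_natCast.mpr hdvd).trans hd
  obtain ⟨j, rfl⟩ := hdvd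
  obtain rfl | rfl : B = 2 ∨ B = -23 := by omega
  · exact ⟨by push_cast at hle; omega, rfl⟩
  · exfalso
    norm_num at hcol hle
    omega

/-- The arithmetic of the Sylow 5-subgroups. -/
theorem sylow_arith {n5 m i : ℕ} (hn : n5 ∣ 9828) (hmod : n5 % 5 = 1) (hm : m ≤ 7) (hm0 : m ≠ 0)
    (hi : 1 ≤ i ∧ i ≤ 4) (heq : n5 * (5 ^ i - 1) = 9828 * m) : False := by
  obtain ⟨hi1, hi2⟩ := hi
  interval_cases m <;> interval_cases i <;> norm_num at heq <;> try omega
  all_goals
    first
    | omega
    | (rw [show n5 = 7371 by omega] at hn; norm_num at hn)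

/-- The order 6142500 does not occur. -/
theorem no_6142500 (h : Num G 13 472500 27 28 700 1 (-1) val) : False := by
  haveI : Fact (Nat.Prime 5) := ⟨Nat.prime_five⟩
  haveI : Fact (Nat.Prime 2) := ⟨Nat.prime_two⟩
  have hG : Nat.card G = 6142500 := by rw [h.card]
  have hfac : (Nat.card G).factorization 5 = 4 := by
    rw [hG, show (6142500 : ℕ) = 5 ^ 4 * 9828 by norm_num,
      Nat.factorization_mul (by norm_num) (by norm_num), Finsupp.add_apply,
      Nat.prime_five.factorization_pow, Finsupp.single_eq_same,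
      Nat.factorization_eq_zero_of_not_dvd (by norm_num)]
  have hQc : ∀ Q : Sylow 5 G, Nat.card (Q : Subgroup G) = 625 := fun Q => by
    rw [Q.card_eq_multiplicity, hfac]; norm_num
  -- elements with a centralizer of order divisible by 625
  have hbig : ∀ y ∈ reg G 13, 625 ∣ cord y → cord y = 625 ∧ val y = 2 := fun y hy hd => by
    refine cord_eq_of_dvd (h.bound y hy) hd Nat.card_pos ?_ ?_
    · simpa using h.divB y hy
    · simpa using h.column y hy
  -- the non-trivial central elements of the Sylow subgroups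
  set fib : Sylow 5 G → Finset G := fun Q =>
    Finset.univ.filter fun y => y ≠ 1 ∧ Subgroup.centralizer ({y} : Set G) = (Q : Subgroup G) with hfib
  set T : Finset G := (reg G 13).filter fun y => cord y = 625 with hT
  have hfibT : ∀ Q, ∀ y ∈ fib Q, y ∈ T := by
    intro Q y hy
    simp only [hfib, Finset.mem_filter, Finset.mem_univ, true_and] at hy
    have hc : cord y = 625 := by rw [cord, hy.2, hQc]
    have hyQ : y ∈ (Q : Subgroup G) := hy.2 ▸ Subgroup.mem_centralizer_singleton_iff.mpr rfl
    have ho := orderOf_dvd_natCard (⟨y, hyQ⟩ : (Q : Subgroup G))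
    rw [hQc, Subgroup.orderOf_mk] at ho
    exact Finset.mem_filter.mpr ⟨mem_reg.mpr ⟨hy.1, fun h13 => by
      have := h13.trans ho; norm_num at this⟩, hc⟩
  -- the fibre over a Sylow subgroup is its centre without the identity
  have hfibcard : ∀ Q : Sylow 5 G, ∃ i, (1 ≤ i ∧ i ≤ 4) ∧ (fib Q).card = 5 ^ i - 1 := by
    intro Q
    set Z : Subgroup G := (Subgroup.center (Q : Subgroup G)).map (Q : Subgroup G).subtype with hZ
    have hZc : Nat.card Z = Nat.card (Subgroup.center (Q : Subgroup G)) :=
      Subgroup.card_map_of_injective (Subgroup.subtype_injective _)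
    have hd : Nat.card (Subgroup.center (Q : Subgroup G)) ∣ 5 ^ 4 := by
      have := Subgroup.card_subgroup_dvd_card (Subgroup.center (Q : Subgroup G))
      rw [hQc] at this; simpa using this
    obtain ⟨i, hi4, hi⟩ := (Nat.dvd_prime_pow Nat.prime_five).mp hd
    haveI : Nontrivial (Q : Subgroup G) :=
      Finite.one_lt_card_iff_nontrivial.mp (by rw [hQc]; norm_num)
    haveI := Q.isPGroup'.center_nontrivial
    have hi1 : 1 ≤ i := by
      rcases Nat.eq_zero_or_pos i with rfl | h0
      · have := Finite.one_lt_card (α := Subgroup.center (Q : Subgroup G))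
        rw [hi] at this; omega
      · exact h0
    have hmem : ∀ y : G, y ∈ Z ↔ y ∈ (Q : Subgroup G) ∧ ∀ q ∈ (Q : Subgroup G), q * y = y * q := by
      intro y
      simp only [hZ, Subgroup.mem_map, Subgroup.mem_center_iff, Subgroup.coe_subtype]
      constructor
      · rintro ⟨⟨a, ha⟩, hac, rfl⟩
        exact ⟨ha, fun q hq => congrArg Subtype.val (hac ⟨q, hq⟩)⟩
      · rintro ⟨ha, hac⟩
        exact ⟨⟨y, ha⟩, fun q => Subtype.ext (hac q q.2), rfl⟩
    refine ⟨i, ⟨hi1, hi4⟩, ?_⟩
    have heq : fib Q = (Finset.univ.filter fun y => y ∈ Z).erase 1 := by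
      ext y
      simp only [hfib, Finset.mem_filter, Finset.mem_univ, true_and, Finset.mem_erase, hmem]
      constructor
      · rintro ⟨h1, h2⟩
        refine ⟨h1, h2 ▸ Subgroup.mem_centralizer_singleton_iff.mpr rfl, fun q hq => ?_⟩
        rw [← h2] at hq
        exact Subgroup.mem_centralizer_singleton_iff.mp hq
      · rintro ⟨h1, hyQ, hc⟩
        have hle : (Q : Subgroup G) ≤ Subgroup.centralizer ({y} : Set G) := fun q hq =>
          Subgroup.mem_centralizer_singleton_iff.mpr (hc q hq)
        have hd := Subgroup.card_dvd_of_le hle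
        rw [hQc] at hd
        have ho := orderOf_dvd_natCard (⟨y, hyQ⟩ : (Q : Subgroup G))
        rw [hQc, Subgroup.orderOf_mk] at ho
        have hr : y ∈ reg G 13 := mem_reg.mpr ⟨h1, fun h13 => by
          have := h13.trans ho; norm_num at this⟩
        refine ⟨h1, (Subgroup.eq_of_le_of_card_ge hle ?_).symm⟩
        rw [hQc]
        exact (hbig y hr hd).1.le
    rw [heq, Finset.card_erase_of_mem (by simp [Z.one_mem]), ← Fintype.card_subtype,
      ← Nat.card_eq_fintype_card, hZc, hi]
  have hfibeq : ∀ Q Q' : Sylow 5 G, (fib Q).card = (fib Q').card := by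
    intro Q Q'
    obtain ⟨g, rfl⟩ := MulAction.exists_smul_eq G Q Q'
    refine Finset.card_equiv (MulAut.conj g).toEquiv fun y => ?_
    simp only [hfib, Finset.mem_filter, Finset.mem_univ, true_and, MulEquiv.toEquiv_eq_coe,
      MulEquiv.coe_toEquiv, MulAut.conj_apply]
    refine and_congr (not_congr conj_eq_one_iff.symm) ?_
    have hcz : Subgroup.centralizer ({g * y * g⁻¹} : Set G) =
        (Subgroup.centralizer ({y} : Set G)).map (MulAut.conj g).toMonoidHom := by
      ext a
      simp only [Subgroup.mem_centralizer_singleton_iff, Subgroup.mem_map, MulEquiv.coe_toMonoidHom,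
        MulAut.conj_apply]
      constructor
      · intro ha
        refine ⟨g⁻¹ * a * g, ?_, by group⟩
        calc g⁻¹ * a * g * y = g⁻¹ * (a * (g * y * g⁻¹)) * g := by group
          _ = g⁻¹ * ((g * y * g⁻¹) * a) * g := by rw [ha]
          _ = y * (g⁻¹ * a * g) := by group
      · rintro ⟨b, hb, rfl⟩
        calc g * b * g⁻¹ * (g * y * g⁻¹) = g * (b * y) * g⁻¹ := by group
          _ = g * (y * b) * g⁻¹ := by rw [hb]
          _ = g * y * g⁻¹ * (g * b * g⁻¹) := by group
    rw [hcz, Sylow.coe_subgroup_smul]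
    change _ ↔ _ = (Q : Subgroup G).map _
    exact (Subgroup.map_injective (MulEquiv.injective _)).eq_iff.symm
  obtain ⟨Q₀⟩ := (inferInstance : Nonempty (Sylow 5 G))
  obtain ⟨i, hi, hiQ⟩ := hfibcard Q₀
  have hTcard : T.card = Nat.card (Sylow 5 G) * (5 ^ i - 1) := by
    have hT' : T = Finset.univ.biUnion fib := by
      ext y
      simp only [Finset.mem_biUnion, Finset.mem_univ, true_and]
      refine ⟨fun hy => ?_, fun ⟨Q, hQ⟩ => hfibT Q y hQ⟩
      obtain ⟨hr, hc⟩ := Finset.mem_filter.mp hy
      refine ⟨Sylow.ofCard (Subgroup.centralizer ({y} : Set G)) ?_, ?_⟩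
      · rw [hfac]; exact hc
      · simp only [hfib, Finset.mem_filter, Finset.mem_univ, true_and]
        exact ⟨(mem_reg.mp hr).1, rfl⟩
    rw [hT', Finset.card_biUnion (fun Q _ Q' _ hne => Finset.disjoint_left.mpr fun y hy hy' => by
        simp only [hfib, Finset.mem_filter, Finset.mem_univ, true_and] at hy hy'
        exact hne (Sylow.ext (hy.2.symm.trans hy'.2))),
      Finset.sum_congr rfl (g := fun _ => 5 ^ i - 1) (fun Q _ => (hfibeq Q Q₀).trans hiQ),
      Finset.sum_const, Finset.card_univ, ← Nat.card_eq_fintype_card, smul_eq_mul]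
  -- its size is a multiple of the class size
  have hTsub : T ⊆ reg G 13 := Finset.filter_subset _ _
  have hTconj : ∀ c, ∀ y ∈ T, c * y * c⁻¹ ∈ T := fun c y hy => by
    obtain ⟨hr, hc⟩ := Finset.mem_filter.mp hy
    exact Finset.mem_filter.mpr ⟨reg_conj c hr, by rw [cord_conj, hc]⟩
  obtain ⟨m, hm⟩ : ∃ m : ℕ, T.card = 9828 * m := by
    refine ⟨(T.image ConjClasses.mk).card, ?_⟩
    have h1 := h.sum_classes hTsub hTconj (fun _ => 1) (fun _ _ => rfl)
    rw [Finset.sum_congr (s₁ := T.image ConjClasses.mk) rfl (g := fun _ => (9828 : ℤ)) (fun C hC => by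
      obtain ⟨y, hy, rfl⟩ := Finset.mem_image.mp hC
      obtain ⟨c, hc⟩ := isConj_iff.mp
        (ConjClasses.mk_eq_mk_iff_isConj.mp (mk_rep (ConjClasses.mk y))).symm
      rw [← hc, cord_conj, (Finset.mem_filter.mp hy).2]
      norm_num)] at h1
    simp only [Finset.sum_const, nsmul_eq_mul, mul_one] at h1
    rw [mul_comm]
    exact_mod_cast h1
  -- an element of order five commuting with an involution
  obtain ⟨g, hg⟩ := exists_prime_orderOf_dvd_card' (G := G) 2 (by rw [hG]; norm_num)
  obtain ⟨⟨w, hwC⟩, hw⟩ := exists_prime_orderOf_dvd_card' (G := Subgroup.centralizer ({g} : Set G)) 5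
    (by rw [show Nat.card (Subgroup.centralizer ({g} : Set G)) = 700 from (h.invol g hg).1]; norm_num)
  rw [Subgroup.orderOf_mk] at hw
  have hwr : w ∈ reg G 13 := mem_reg.mpr ⟨fun e => by rw [e, orderOf_one] at hw; omega,
    by rw [hw]; norm_num⟩
  have hev : 2 ∣ cord w := by
    have := orderOf_dvd_natCard (⟨g, Subgroup.mem_centralizer_singleton_iff.mpr
      (Subgroup.mem_centralizer_singleton_iff.mp hwC).symm⟩ : Subgroup.centralizer ({w} : Set G))
    rwa [Subgroup.orderOf_mk, hg] at this
  set W := Finset.univ.filter (fun a => IsConj a w) with hW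
  have hWw : ∑ a ∈ W, val a * (val a + 1) =
      ((13 * (472500 / cord w) : ℕ) : ℤ) * (val w * (val w + 1)) := by
    rw [Finset.sum_congr rfl (g := fun _ => val w * (val w + 1)) (fun a ha => by
      obtain ⟨e, he⟩ := isConj_iff.mp (Finset.mem_filter.mp ha).2.symm
      rw [← he, h.cls]), Finset.sum_const, h.class_card hwr, nsmul_eq_mul]
  have h49 : 49140 ≤ ∑ a ∈ W, val a * (val a + 1) := by
    rw [hWw]
    refine weight_order_five (h.bound w hwr) ?_ hev (h.cdvd w hwr) ?_ ?_
    · exact h.pcongr 5 1 Nat.prime_five (by norm_num) w (by rw [hw, pow_one])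
    · simpa using h.divB w hwr
    · simpa using h.column w hwr
  have hdisj : Disjoint W T := Finset.disjoint_left.mpr fun a ha haT => by
    obtain ⟨e, he⟩ := isConj_iff.mp (Finset.mem_filter.mp ha).2.symm
    have hc := (Finset.mem_filter.mp haT).2
    rw [← he, cord_conj] at hc
    rw [hc] at hev
    norm_num at hev
  have hTsum : ∑ a ∈ T, val a * (val a + 1) = 6 * (9828 * (m : ℤ)) := by
    rw [Finset.sum_congr rfl (g := fun _ => (6 : ℤ)) (fun a ha => by
      obtain ⟨hr, hc⟩ := Finset.mem_filter.mp ha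
      rw [(hbig a hr (hc ▸ dvd_rfl)).2]; norm_num), Finset.sum_const, hm, nsmul_eq_mul]
    push_cast; ring
  have hle : ∑ a ∈ W ∪ T, val a * (val a + 1) ≤ ∑ a ∈ reg G 13, val a * (val a + 1) := by
    refine Finset.sum_le_sum_of_subset_of_nonneg (Finset.union_subset (fun a ha => ?_) hTsub)
      fun a _ _ => weight_nonneg h.sign _
    obtain ⟨e, he⟩ := isConj_iff.mp (Finset.mem_filter.mp ha).2.symm
    exact he ▸ reg_conj e hwr
  rw [Finset.sum_union hdisj, hTsum, h.ident] at hle
  refine sylow_arith (n5 := Nat.card (Sylow 5 G)) (m := m) (i := i) ?_ ?_ ?_ ?_ hi ?_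
  · have := Q₀.card_dvd_index
    have hi' := (Q₀ : Subgroup G).card_mul_index
    rw [hQc, hG] at hi'
    rwa [show (Q₀ : Subgroup G).index = 9828 by omega] at this
  · exact card_sylow_modEq_one 5 G
  · norm_num at hle; omega
  · intro hm0
    rw [hm0, mul_zero, hTcard, mul_eq_zero] at hm
    rcases hm with hm | hm
    · exact Nat.card_pos.ne' hm
    · have : 5 ^ 1 ≤ 5 ^ i := Nat.pow_le_pow_right (by norm_num) hi.1
      omega
  · rw [← hTcard, hm]

end CfsgLib.IndexTwoSmooth
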