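import Cfsg.Agent.Lib.IndexTwoSmooth.Kill
import Cfsg.Agent.Lib.IndexTwoSmooth.Special
import Cfsg.Agent.Lib.IndexTwoSmooth.Like
import Cfsg.Agent.Lib.IndexTwoSmooth.CITCase

/-!
# Simple groups of order `2^a 3^b 5^c 7^d p` with `|N(P) : P| = 2`
-/

set_option autoImplicit false
set_option linter.unusedSectionVars false

namespace CfsgLib.IndexTwoSmooth

universe u

variable {G : Type u} [Group G] [Fintype G]

theorem concl_of_num [IsSimpleGroup G] (hG : ¬ IsMulCommutative G) {p k x z cg : ℕ} {δ A : ℤ} {val : G → ℤ}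
    (h : Num G p k x z cg δ A val) (hs : Smooth7 k) : Concl G := by
  have hv := verdict_of_num h hs
  obtain ⟨n, hn⟩ := h.kmod
  simp only [verdict, Bool.and_eq_true, Bool.or_eq_true, decide_eq_true_eq, List.contains_iff_mem,
    List.any_eq_true] at hv
  rcases hv with ((((hv | hv) | hv) | hv) | hv) | hv
  · refine cit_case hG (h.card ▸ hv.1) fun t ht => ?_
    obtain ⟨i, -, hi⟩ := (Nat.dvd_prime_pow Nat.prime_two).mp
      ((h.invol t ht).1 ▸ Nat.dvd_of_mod_eq_zero hv.2 : cord t ∣ 2 ^ 7)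
    exact IsPGroup.of_card (n := i) hi
  · obtain ⟨⟨hk, hl⟩, hc⟩ := hv
    refine like_case (likeCase_of_num h hk ?_) hl
    split_ifs at hc ⊢
    · exact decide_eq_true_eq.mp hc
    · exact decide_eq_true_eq.mp hc
  · exact (not_weightBad h ⟨_, hn⟩ hv).elim
  · exact (not_noFull h hv).elim
  · simp only [specialTup, Prod.mk.injEq] at hv
    obtain ⟨rfl, rfl, rfl, rfl, rfl, rfl, rfl⟩ := hv
    exact (no_6142500 h).elim
  · obtain ⟨⟨t, g, lim, R⟩, -, he, hb⟩ := hv
    simp only at he hb
    subst he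
    exact (not_sumBad h hs hb).elim

theorem main [IsSimpleGroup G] (hG : ¬ IsMulCommutative G) (a b c d p : ℕ) (ha : 0 < a) (hp : p.Prime)
    (hp2 : p ≠ 2) (hord : Nat.card G = 2 ^ a * 3 ^ b * 5 ^ c * 7 ^ d * p) (P : Sylow p G)
    (hPp : Nat.card (P : Subgroup G) = p)
    (hN : (P : Subgroup G).relIndex (Subgroup.normalizer ((P : Subgroup G) : Set G)) = 2) : Concl G := by
  haveI := Fact.mk hp
  by_cases hp3 : p = 3
  · subst hp3
    exact three_case hG P hPp hN
  have hp5 : 5 ≤ p := by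
    have := hp.two_le
    by_contra hlt
    interval_cases p <;> simp_all (config := { decide := true })
  have heven : 2 ∣ Nat.card G := hord ▸
    (((((dvd_pow_self 2 ha.ne').mul_right _).mul_right _).mul_right _).mul_right _)
  obtain ⟨k, x, z, cg, δ, A, val, h⟩ := exists_num hG P hPp hN hp5 heven
  refine concl_of_num hG h fun q hq hd => ?_
  have hk : k = num (a, b, c, d) := by
    have hc := h.card
    rw [hord, mul_comm] at hc
    exact (Nat.eq_of_mul_eq_mul_left hp.pos hc).symm
  rcases prime_dvd_num hq (hk ▸ hd) with e | e | e | e <;> simp [e.1]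

end CfsgLib.IndexTwoSmooth
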